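import Cfsg.Agent.Characters.Clifford
import Cfsg.Agent.CharDeep.PowerDegrees
import Cfsg.Agent.PermutationGroups.OnanScott
import Cfsg.Agent.S0145
import Cfsg.Agent.S0133
import Cfsg.Agent.Characters.GaloisIrr
import Cfsg.Agent.S0165
import Cfsg.Agent.S0157
import Cfsg.Agent.ClassicalGeometry.PSL2Basic
import Cfsg.Agent.CharDeep.LinearChar
import Cfsg.Agent.FastGrp
import Cfsg.Agent.Prune
set_option linter.all false

section
prune_inst 0x7f00000000000000000000000000000000000000000000000000000000000000000000000000000000000000000000000000000000000000000000000000000000000000000000000000000000000000003ff7f7f7ffffffffffffffffffffbeffbdebfeffff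

-- part: H713/Van
section
set_option linter.all false
open scoped Cfsg.Agent.FastGrp

/-!
# Vanishing elements and the reduction of S4943 to simple groups (helper713)

* `Van G x` : some irreducible character of `G` vanishes at `x`.
* `Star G` : the hypothesis of S4943.
* `VZ S x` : some irreducible character `θ` of `S` vanishes at all `Aut S`-images of `x`.
* `Row S` : what has to be proved for each non-abelian simple group `S`.
* `solvable_of_rows` : S4943 from the rows.
-/

set_option autoImplicit false
set_option linter.dupNamespace false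

namespace Cfsg.Agent.H713

open Cfsg Cfsg.Agent.Characters.Core Cfsg.Agent.Characters.Clifford
open scoped ComplexConjugate

universe u v w

/-- Some irreducible character of `G` vanishes at `x`. -/
def Van (G : Type*) [Group G] (x : G) : Prop := ∃ χ : IrrCharacter G, (χ : G → ℂ) x = 0

/-- Two vanishing elements that are not conjugate have orders with gcd at most two. -/
def Star (G : Type*) [Group G] : Prop :=
  ∀ x y : G, Van G x → Van G y → ¬ IsConj x y → Nat.gcd (orderOf x) (orderOf y) ≤ 2

/-- Some irreducible character of `S` vanishes at all images of `x` under automorphisms. -/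
def VZ (S : Type*) [Group S] (x : S) : Prop :=
  ∃ θ : IrrCharacter S, ∀ α : MulAut S, (θ : S → ℂ) (α x) = 0

/-- What has to be shown for each non-abelian simple group `S`. -/
structure Row (S : Type v) [Group S] : Prop where
  vz : ∃ x : S, 2 < orderOf x ∧ VZ S x
  as : ∀ (G : Type u) [Group G] [Finite G] (f : S →* G), Function.Injective f → f.range.Normal →
    Subgroup.centralizer (f.range : Set G) = ⊥ → ¬ Star G

variable {G : Type*} [Group G]

theorem VZ.van {x : G} (h : VZ G x) : Van G x := by
  obtain ⟨θ, h⟩ := h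
  exact ⟨θ, by simpa using h 1⟩

theorem VZ.aut {x : G} (h : VZ G x) (α : MulAut G) : VZ G (α x) := by
  obtain ⟨θ, h⟩ := h
  exact ⟨θ, fun β => by simpa using h (β * α)⟩

theorem VZ.mulEquiv {H : Type*} [Group H] (e : G ≃* H) {x : G} (h : VZ G x) : VZ H (e x) := by
  obtain ⟨θ, h⟩ := h
  refine ⟨⟨(θ : G → ℂ) ∘ e.symm, isIrr_comp (e.symm : H →* G) e.symm.surjective θ.2⟩, fun α => ?_⟩
  have := h ((e.trans α).trans e.symm)
  simpa using this

/-- Rows transfer along isomorphisms. -/
theorem Row.mulEquiv {S : Type v} [Group S] {S' : Type w} [Group S'] (h : Row.{u, v} S)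
    (e : S ≃* S') : Row.{u, w} S' where
  vz := by
    obtain ⟨x, hx, h1⟩ := h.vz
    exact ⟨e x, by rwa [MulEquiv.orderOf_eq], h1.mulEquiv e⟩
  as := by
    intro G _ _ f hf hn hc
    have hr : (f.comp (e : S →* S')).range = f.range := by
      ext g
      constructor
      · rintro ⟨a, rfl⟩
        exact ⟨e a, rfl⟩
      · rintro ⟨a, rfl⟩
        exact ⟨e.symm a, by simp⟩
    refine h.as G (f.comp (e : S →* S')) (hf.comp e.injective) ?_ ?_
    · rw [hr]; exact hn
    · rw [hr]; exact hc

theorem Van.of_surjective {H : Type*} [Group H] (f : G →* H) (hf : Function.Surjective f) {x : G}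
    (h : Van H (f x)) : Van G x := by
  obtain ⟨χ, h⟩ := h
  exact ⟨⟨(χ : H → ℂ) ∘ f, isIrr_comp f hf χ.2⟩, h⟩

theorem Van.conj {x y : G} (h : Van G x) (hxy : IsConj x y) : Van G y := by
  obtain ⟨χ, h⟩ := h
  refine ⟨χ, ?_⟩
  obtain ⟨c, rfl⟩ := isConj_iff.1 hxy
  rw [isIrr_isClassFunction χ.2 x c]
  exact h

/-- The hypothesis passes to homomorphic images. -/
theorem Star.of_surjective [Finite G] {H : Type*} [Group H] (f : G →* H)
    (hf : Function.Surjective f) (hG : Star G) : Star H := by
  intro x y hx hy hxy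
  obtain ⟨x, rfl⟩ := hf x
  obtain ⟨y, rfl⟩ := hf y
  have h1 := hG x y (hx.of_surjective f hf) (hy.of_surjective f hf) (fun h => hxy (f.map_isConj h))
  have h2 : Nat.gcd (orderOf (f x)) (orderOf (f y)) ∣ Nat.gcd (orderOf x) (orderOf y) :=
    Nat.gcd_dvd_gcd_of_dvd_left _ (orderOf_map_dvd f x) |>.trans
      (Nat.gcd_dvd_gcd_of_dvd_right _ (orderOf_map_dvd f y))
  have h3 : 0 < Nat.gcd (orderOf x) (orderOf y) := Nat.gcd_pos_of_pos_left _ (orderOf_pos x)
  exact (Nat.le_of_dvd h3 h2).trans h1

theorem Star.mulEquiv [Finite G] {H : Type*} [Group H] (e : G ≃* H) (hG : Star G) : Star H :=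
  hG.of_surjective e.toMonoidHom e.surjective

/-- Two vanishing elements whose orders have a common divisor greater than two are conjugate. -/
theorem Star.isConj {x y : G} (hG : Star G) (hx : Van G x) (hy : Van G y) {d : ℕ} (hd : 2 < d)
    (h1 : d ∣ orderOf x) (h2 : d ∣ orderOf y) (hpos : 0 < orderOf x) : IsConj x y := by
  by_contra hcon
  have h3 := hG x y hx hy hcon
  have h4 := Nat.le_of_dvd (Nat.gcd_pos_of_pos_left _ hpos) (Nat.dvd_gcd h1 h2)
  omega

/-- The lifting lemma: for an irreducible character `θ` of a normal subgroup `N` some irreducible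
character of `G` vanishes at all `n ∈ N` all of whose conjugates are zeros of `θ`. -/
theorem exists_lift [Finite G] (N : Subgroup G) [N.Normal] {θ : N → ℂ}
    (hθ : IsIrrCharacter N θ) :
    ∃ χ : IrrCharacter G, ∀ n : N, (∀ g : G, θ (MulAut.conjNormal g n) = 0) → (χ : G → ℂ) n = 0 := by
  classical
  have := Fintype.ofFinite G
  have := Fintype.ofFinite N
  obtain ⟨χ, hχ, hne⟩ := Cfsg.Agent.CharDeep.PowerDegrees.exists_irr_over N hθ
  refine ⟨⟨χ, hχ⟩, fun n hn => ?_⟩
  have := finite_irr (G := N)
  have := Fintype.ofFinite (IrrCharacter N)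
  obtain ⟨m, hm⟩ := exists_nat_comb (isCharacter_restrict N (isIrr_isCharacter hχ))
  have h1 : χ n = ∑ η : IrrCharacter N, m η • (η : N → ℂ) n := by
    have := congrFun hm n
    simpa [Finset.sum_apply] using this
  change χ n = 0
  rw [h1]
  refine Finset.sum_eq_zero fun η _ => ?_
  by_cases hη : m η = 0
  · simp [hη]
  · have h2 : classInner (fun n : N => χ n) (η : N → ℂ) ≠ 0 := by
      rw [hm, classInner_sum_nsmul_irr]
      exact_mod_cast hη
    obtain ⟨g, hg⟩ := exists_conj_of_constituents N hχ hθ η.2 hne h2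
    rw [hg]
    simp [hn g]


/-- `VZ` elements of a normal subgroup (given by an injective homomorphism) are vanishing. -/
theorem van_of_vz {S : Type*} [Group S] [Finite G] (f : S →* G) (hf : Function.Injective f)
    (hn : f.range.Normal) {x : S} (hx : VZ S x) : Van G (f x) := by
  obtain ⟨θ, hθ⟩ := hx
  let e : S ≃* f.range := MonoidHom.ofInjective hf
  obtain ⟨χ, hχ⟩ := exists_lift f.range
    (isIrr_comp (e.symm : f.range →* S) e.symm.surjective θ.2)
  refine ⟨χ, hχ (e x) fun g => ?_⟩
  have := hθ ((e.trans (MulAut.conjNormal g)).trans e.symm)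
  simpa using this

/-- Products of irreducible characters are irreducible. -/
theorem isIrr_pi {S ι : Type*} [Group S] [Finite S] [Fintype ι] {θ : S → ℂ}
    (hθ : IsIrrCharacter S θ) : IsIrrCharacter (ι → S) (fun n => ∏ i, θ (n i)) := by
  classical
  have := Fintype.ofFinite S
  have h1 : IsCharacter (ι → S) (fun n => ∏ i, θ (n i)) := by
    have : ∀ s : Finset ι, IsCharacter (ι → S) (fun n => ∏ i ∈ s, θ (n i)) := by
      intro s
      induction s using Finset.induction_on with
      | empty => simpa using! isCharacter_one (G := ι → S)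
      | insert a s ha ih =>
        have h2 := isCharacter_mul (isCharacter_comp (Pi.evalMonoidHom (fun _ : ι => S) a)
          (isIrr_isCharacter hθ)) ih
        have h3 : (fun n : ι → S => ∏ i ∈ insert a s, θ (n i)) =
          (θ ∘ (Pi.evalMonoidHom (fun _ : ι => S) a)) * fun n => ∏ i ∈ s, θ (n i) := by
          funext n
          simp [Finset.prod_insert ha]
        rw [h3]
        exact h2
    exact this Finset.univ
  refine isIrr_of_classInner_self h1 ?_
  have h4 : ∑ s : S, θ s * conj (θ s) = Nat.card S := by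
    have h5 := classInner_irr_self hθ
    rw [classInner_def] at h5
    have h6 : (Nat.card S : ℂ) ≠ 0 := card_ne_zero_complex
    field_simp at h5
    exact h5
  rw [classInner_def]
  have h7 : ∑ n : ι → S, (∏ i, θ (n i)) * conj (∏ i, θ (n i)) = ∏ _i : ι, ∑ s : S, θ s * conj (θ s) := by
    rw [Finset.prod_univ_sum, Fintype.piFinset_univ]
    refine Finset.sum_congr rfl fun n _ => ?_
    rw [map_prod, ← Finset.prod_mul_distrib]
  rw [h7, h4]
  simp only [Finset.prod_const, Finset.card_univ, Nat.card_eq_fintype_card, Fintype.card_fun]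
  push_cast
  rw [inv_mul_cancel₀]
  have : (Fintype.card S : ℂ) ≠ 0 := by
    have := Fintype.card_ne_zero (α := S)
    exact_mod_cast this
  exact pow_ne_zero _ this

end Cfsg.Agent.H713
end

-- part: H419/Count
section
set_option linter.all false
open scoped Cfsg.Agent.FastGrp

/-!
# Vanishing elements from small centralizers (helper419)

* `card_conjClasses_le` : if no irreducible character vanishes at `x`, then the number of conjugacy
  classes of `G` is at most `#C_G(x)`.
* `vz_of_card_lt` : the same for the relation `VZ` when `⟨x⟩` is invariant under automorphisms up to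
  conjugation.
-/

set_option autoImplicit false

namespace Cfsg.Agent.H419.Count

open Cfsg Cfsg.Agent.Characters.Core Cfsg.Agent.H713
open scoped ComplexConjugate

variable {G : Type*} [Group G]

/-- If no irreducible character vanishes at `x`, then `k(G) ≤ #C_G(x)`. -/
theorem card_conjClasses_le [Finite G] (x : G) (hx : ¬ Van G x) :
    Nat.card (ConjClasses G) ≤ Nat.card (Subgroup.centralizer ({x} : Set G)) := by
  classical
  have : Finite (IrrCharacter G) := finite_irr
  have := Fintype.ofFinite (IrrCharacter G)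
  have hcon : ∀ χ : IrrCharacter G, (χ : G → ℂ) x ≠ 0 := fun χ h => hx ⟨χ, h⟩
  set P : ℂ := ∏ χ : IrrCharacter G, (χ : G → ℂ) x with hP
  have hP0 : P ≠ 0 := Finset.prod_ne_zero_iff.mpr fun χ _ => hcon χ
  have hPint : IsIntegral ℤ P := by
    refine IsIntegral.prod _ fun χ _ => ?_
    exact Cfsg.Agent.Characters.GaloisBasic.isIntegral_apply (isIrr_isCharacter χ.2) x
  have hfix : ∀ σ : ℂ ≃+* ℂ, σ P = P := by
    intro σ
    rw [hP, map_prod]
    let f : IrrCharacter G → IrrCharacter G := fun χ =>
      ⟨fun g => σ ((χ : G → ℂ) g), Cfsg.Agent.Characters.GaloisIrr.isIrr_map σ χ.2⟩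
    have hf : Function.Injective f := by
      intro χ ψ h
      apply Subtype.ext
      funext g
      have h1 := congrFun (congrArg Subtype.val h) g
      exact σ.injective h1
    have hb : Function.Bijective f := Finite.injective_iff_bijective.1 hf
    have h2 := hb.prod_comp (fun χ : IrrCharacter G => (χ : G → ℂ) x)
    rw [← h2]
  obtain ⟨k, hk⟩ := Cfsg.Agent.Characters.GaloisBasic.exists_int_of_isIntegral hPint
    (Cfsg.Agent.Characters.GaloisBasic.exists_rat_of_forall_ringEquiv (hPint.tower_top) hfix)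
  have hk0 : k ≠ 0 := by
    rintro rfl
    exact hP0 (by rw [hk]; simp)
  have hPnorm : 1 ≤ ‖P‖ := by
    rw [hk, Complex.norm_intCast]
    exact_mod_cast Int.one_le_abs hk0
  have hpos : ∀ χ : IrrCharacter G, 0 < ‖(χ : G → ℂ) x‖ ^ 2 := fun χ => by
    have := norm_pos_iff.mpr (hcon χ)
    positivity
  have hAG : (Nat.card (IrrCharacter G) : ℝ) ≤ ∑ χ : IrrCharacter G, ‖(χ : G → ℂ) x‖ ^ 2 := by
    have h1 : ∑ χ : IrrCharacter G, (Real.log (‖(χ : G → ℂ) x‖ ^ 2) + 1) ≤
        ∑ χ : IrrCharacter G, ‖(χ : G → ℂ) x‖ ^ 2 := by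
      refine Finset.sum_le_sum fun g _ => ?_
      have := Real.log_le_sub_one_of_pos (hpos g)
      linarith
    have h2 : 0 ≤ ∑ χ : IrrCharacter G, Real.log (‖(χ : G → ℂ) x‖ ^ 2) := by
      rw [← Real.log_prod (fun g _ => (hpos g).ne'), Finset.prod_pow, ← norm_prod]
      apply Real.log_nonneg
      exact one_le_pow₀ hPnorm
    rw [Finset.sum_add_distrib, Finset.sum_const, nsmul_eq_mul, mul_one, Finset.card_univ,
      ← Nat.card_eq_fintype_card] at h1
    linarith
  have hsum : ((∑ χ : IrrCharacter G, ‖(χ : G → ℂ) x‖ ^ 2 : ℝ) : ℂ) =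
      Nat.card (Subgroup.centralizer ({x} : Set G)) := by
    have h1 := (Cfsg.Agent.S0145.result x x).1 (IsConj.refl x)
    rw [finsum_eq_sum_of_fintype] at h1
    rw [← h1, Complex.ofReal_sum]
    refine Finset.sum_congr rfl fun χ _ => ?_
    rw [Complex.mul_conj, Complex.normSq_eq_norm_sq]
  have hsum' : ∑ χ : IrrCharacter G, ‖(χ : G → ℂ) x‖ ^ 2 =
      (Nat.card (Subgroup.centralizer ({x} : Set G)) : ℝ) := by exact_mod_cast hsum
  rw [hsum'] at hAG
  rw [← Cfsg.Agent.S0133.result]
  exact_mod_cast hAG

/-- Vanishing from a small centralizer. -/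
theorem van_of_card_lt [Finite G] {x : G}
    (h : Nat.card (Subgroup.centralizer ({x} : Set G)) < Nat.card (ConjClasses G)) : Van G x := by
  by_contra hcon
  have := card_conjClasses_le x hcon
  omega

/-- A zero of `θ` gives zeros at the generators of the same cyclic group. -/
theorem irr_eq_zero_of_zpowers_eq [Finite G] (θ : IrrCharacter G) {x y : G}
    (hxy : Subgroup.zpowers y = Subgroup.zpowers x) (h : (θ : G → ℂ) x = 0) :
    (θ : G → ℂ) y = 0 := by
  have hy : y ∈ Subgroup.zpowers x := hxy ▸ Subgroup.mem_zpowers y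
  have ho : orderOf y = orderOf x := by
    rw [← Nat.card_zpowers, ← Nat.card_zpowers, hxy]
  obtain ⟨m, hm⟩ := (Subgroup.mem_zpowers_iff.1 hy)
  obtain ⟨m, hm⟩ : ∃ m : ℕ, x ^ m = y := by
    have := (mem_powers_iff_mem_zpowers (x := x) (y := y)).2 hy
    exact this
  have hc : m.Coprime (orderOf x) := by
    have h1 := orderOf_pow x (n := m)
    rw [hm, ho] at h1
    have h2 : 0 < orderOf x := orderOf_pos x
    have h3 : (orderOf x).gcd m = 1 := by
      have hd := Nat.gcd_dvd_left (orderOf x) m
      have h4 : 0 < (orderOf x).gcd m := Nat.gcd_pos_of_pos_left _ h2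
      have h5 : orderOf x / (orderOf x).gcd m * (orderOf x).gcd m = orderOf x :=
        Nat.div_mul_cancel hd
      rw [← h1] at h5
      have h6 : orderOf x * (orderOf x).gcd m = orderOf x * 1 := by rw [h5, mul_one]
      exact Nat.eq_of_mul_eq_mul_left h2 h6
    rw [Nat.coprime_comm]
    exact h3
  obtain ⟨σ, hσ⟩ := Cfsg.Agent.Characters.GaloisBasic.exists_ringEquiv_pow (orderOf_pos x).ne' hc
  have h1 := Cfsg.Agent.Characters.GaloisBasic.map_apply (σ : ℂ →+* ℂ) (fun z hz => hσ z hz)
    (isIrr_isCharacter θ.2) (g := x) (orderOf_pos x).ne' (pow_orderOf_eq_one x)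
  rw [hm, h, map_zero] at h1
  exact h1.symm

/-- `VZ` from a small centralizer when `⟨x⟩` is invariant under automorphisms up to conjugation. -/
theorem vz_of_van [Finite G] {x : G} (h : Van G x)
    (hα : ∀ α : MulAut G, ∃ g : G, Subgroup.zpowers (g * α x * g⁻¹) = Subgroup.zpowers x) :
    VZ G x := by
  obtain ⟨θ, hθ⟩ := h
  refine ⟨θ, fun α => ?_⟩
  obtain ⟨g, hg⟩ := hα α
  have h1 := irr_eq_zero_of_zpowers_eq θ hg hθ
  rw [← isIrr_isClassFunction θ.2 (α x) g]
  exact h1

theorem vz_of_card_lt [Finite G] {x : G}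
    (h : Nat.card (Subgroup.centralizer ({x} : Set G)) < Nat.card (ConjClasses G))
    (hα : ∀ α : MulAut G, ∃ g : G, Subgroup.zpowers (g * α x * g⁻¹) = Subgroup.zpowers x) :
    VZ G x := vz_of_van (van_of_card_lt h) hα

/-- If all automorphisms are inner every vanishing element is a `VZ` element. -/
theorem vz_of_inner [Finite G] {x : G} (h : Van G x)
    (hin : ∀ α : MulAut G, ∃ g : G, α = MulAut.conj g) : VZ G x := by
  refine vz_of_van h fun α => ?_
  obtain ⟨g, rfl⟩ := hin α
  exact ⟨g⁻¹, by simp [mul_assoc]⟩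

/-- The number of conjugacy classes is at least the number of elements of a set of pairwise
non-conjugate elements. -/
theorem card_le_of_pairwise [Finite G] {ι : Type*} [Finite ι] (f : ι → G)
    (hf : ∀ i j, IsConj (f i) (f j) → i = j) : Nat.card ι ≤ Nat.card (ConjClasses G) := by
  refine Nat.card_le_card_of_injective (fun i => ConjClasses.mk (f i)) fun i j h => ?_
  exact hf i j (ConjClasses.mk_eq_mk_iff_isConj.1 h)

/-- The number of conjugacy classes is at least the number of element orders. -/
theorem card_orders_le [Finite G] (s : Finset ℕ) (hs : ∀ n ∈ s, ∃ g : G, orderOf g = n) :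
    s.card ≤ Nat.card (ConjClasses G) := by
  classical
  choose f hf using fun n : s => hs n.1 n.2
  have h1 := card_le_of_pairwise f (fun i j h => by
    obtain ⟨c, hc⟩ := isConj_iff.1 h
    have h2 : orderOf (f j) = orderOf (f i) := by
      rw [← hc]
      exact (MulAut.conj c).orderOf_eq (f i)
    apply Subtype.ext
    rw [← hf i, ← hf j, h2])
  rwa [Nat.card_eq_fintype_card, Fintype.card_coe] at h1

theorem orderOf_eq_of_isConj {x y : G} (h : IsConj x y) : orderOf x = orderOf y := by
  obtain ⟨c, hc⟩ := isConj_iff.1 h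
  rw [← hc, ← MulAut.conj_apply, MulEquiv.orderOf_eq]

/-- The same with two non-conjugate elements of the same order. -/
theorem card_orders_succ_le [Finite G] (s : Finset ℕ) (hs : ∀ n ∈ s, ∃ g : G, orderOf g = n)
    {a b : G} (hab : ¬ IsConj a b) (ho : orderOf a = orderOf b) :
    s.card + 1 ≤ Nat.card (ConjClasses G) := by
  classical
  choose f hf using fun n : s => hs n.1 n.2
  -- an element not conjugate to any `f n`
  obtain ⟨c, hc⟩ : ∃ c : G, ∀ n, ¬ IsConj (f n) c := by
    by_cases h : ∃ n, IsConj (f n) a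
    · obtain ⟨n, hn⟩ := h
      refine ⟨b, fun m hm => hab ?_⟩
      have h1 : orderOf (f n) = orderOf (f m) := by
        rw [orderOf_eq_of_isConj hn, orderOf_eq_of_isConj hm, ho]
      rw [hf, hf] at h1
      have h2 : n = m := Subtype.ext h1
      subst h2
      exact hn.symm.trans hm
    · exact ⟨a, fun n hn => h ⟨n, hn⟩⟩
  have h1 := card_le_of_pairwise (ι := Option s) (fun o => o.elim c f) (fun i j h => by
    rcases i with _ | i <;> rcases j with _ | j
    · rfl
    · exact absurd (IsConj.symm h) (hc j)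
    · exact absurd h (hc i)
    · congr 1
      apply Subtype.ext
      rw [← hf i, ← hf j]
      exact orderOf_eq_of_isConj h)
  rwa [Nat.card_eq_fintype_card, Fintype.card_option, Fintype.card_coe] at h1

/-- Powers give further element orders. -/
theorem exists_order_of_dvd [Finite G] {x : G} {n : ℕ} (h : n ∣ orderOf x) :
    ∃ g : G, orderOf g = n := by
  obtain ⟨k, hk⟩ := h
  have h0 : 0 < orderOf x := orderOf_pos x
  have hk0 : k ≠ 0 := by
    rintro rfl
    omega
  refine ⟨x ^ k, ?_⟩
  rw [orderOf_pow' x hk0, hk, Nat.gcd_eq_right (Dvd.intro_left n rfl),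
    Nat.mul_div_cancel _ (Nat.pos_of_ne_zero hk0)]

/-- The product of commuting elements of coprime orders. -/
theorem orderOf_mul_of_coprime {x y : G} (h : Commute x y)
    (hc : (orderOf x).Coprime (orderOf y)) : orderOf (x * y) = orderOf x * orderOf y :=
  h.orderOf_mul_eq_mul_orderOf_of_coprime hc

/-- A common counting form: `c < #s` for a set `s` of element orders. -/
theorem van_of_orders [Finite G] {x : G} (s : Finset ℕ) (hs : ∀ n ∈ s, ∃ g : G, orderOf g = n)
    (h : Nat.card (Subgroup.centralizer ({x} : Set G)) < s.card) : Van G x :=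
  van_of_card_lt (h.trans_le (card_orders_le s hs))

end Cfsg.Agent.H419.Count
end

-- part: H713/Reduce
section
prune_inst 0x808080000000000000000000000000014010000
set_option linter.all false
open scoped Cfsg.Agent.FastGrp

/-!
# Reduction of S4943 to almost simple groups (helper713)
-/

set_option autoImplicit false
set_option linter.dupNamespace false

namespace Cfsg.Agent.H713

open Cfsg Cfsg.Agent.Characters.Core Cfsg.Agent.Characters.Clifford Subgroup
open scoped ComplexConjugate

universe u v w

section coords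

variable {G : Type u} [Group G] {m : ℕ} {N : Subgroup G} [N.Normal] {T : Fin m → Subgroup G}
  (e : N ≃* (∀ i, T i))

/-- Coordinates are equivariant. -/
theorem coord_conj (hTN : ∀ i, T i ≤ N)
    (he : ∀ i (t : T i), ((e.symm (Pi.mulSingle i t) : N) : G) = t)
    (hc : ∀ (n : N) i, e n i = 1 ↔ ∀ t ∈ T i, Commute (n : G) t) (g : G) (i j : Fin m)
    (hij : T j = (T i).map (MulAut.conj g).toMonoidHom) (n : N) :
    (e (MulAut.conjNormal g n) j : G) = g * (e n i : G) * g⁻¹ := by
  classical
  -- a characterisation of coordinates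
  have key : ∀ (n : N) (i : Fin m) (t : T i), (∀ s ∈ T i, Commute ((t : G)⁻¹ * n) s) → e n i = t := by
    intro n i t h
    have h1 : e (⟨t, hTN i t.2⟩ : N) = Pi.mulSingle i t := by
      apply e.symm.injective
      rw [MulEquiv.symm_apply_apply]
      exact Subtype.ext (he i t).symm
    have h2 : e ((⟨t, hTN i t.2⟩ : N)⁻¹ * n) i = 1 := by
      rw [hc]
      intro s hs
      exact h s hs
    rw [map_mul, map_inv, h1, Pi.mul_apply, Pi.inv_apply, Pi.mulSingle_eq_same] at h2
    exact (inv_mul_eq_one.1 h2).symm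
  have key2 : ∀ (n : N) (i : Fin m), ∀ s ∈ T i, Commute (((e n i : T i) : G)⁻¹ * n) s := by
    intro n i s hs
    have h1 : e (⟨e n i, hTN i (e n i).2⟩ : N) = Pi.mulSingle i (e n i) := by
      apply e.symm.injective
      rw [MulEquiv.symm_apply_apply]
      exact Subtype.ext (he i (e n i)).symm
    have h2 : e ((⟨e n i, hTN i (e n i).2⟩ : N)⁻¹ * n) i = 1 := by
      rw [map_mul, map_inv, h1, Pi.mul_apply, Pi.inv_apply, Pi.mulSingle_eq_same]
      simp
    exact (hc _ i).1 h2 s hs
  have hmem : g * (e n i : G) * g⁻¹ ∈ T j := by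
    rw [hij]
    exact ⟨e n i, (e n i).2, by simp⟩
  have := key (MulAut.conjNormal g n) j ⟨g * (e n i : G) * g⁻¹, hmem⟩ ?_
  · rw [this]
  · intro s hs
    rw [hij] at hs
    obtain ⟨t, ht, rfl⟩ := hs
    have h3 := key2 n i t ht
    simp only [MulAut.conjNormal_apply, MulEquiv.coe_toMonoidHom, MulAut.conj_apply]
    have h4 : (g * (e n i : G) * g⁻¹)⁻¹ * (g * (n : G) * g⁻¹) = g * ((e n i : G)⁻¹ * n) * g⁻¹ := by group
    rw [h4]
    have h5 := h3.map (MulAut.conj g).toMonoidHom
    simpa using h5

/-- The isomorphism between two factors induced by conjugation. -/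
noncomputable def conjIso {A B : Subgroup G} (g : G) (h : B = A.map (MulAut.conj g).toMonoidHom) :
    A ≃* B :=
  (A.equivMapOfInjective (MulAut.conj g).toMonoidHom (MulAut.conj g).injective).trans
    (MulEquiv.subgroupCongr h.symm)

theorem conjIso_apply {A B : Subgroup G} (g : G) (h : B = A.map (MulAut.conj g).toMonoidHom)
    (a : A) : (conjIso g h a : G) = g * a * g⁻¹ := rfl

end coords

/-- The core of the reduction for a minimal normal subgroup with at least two factors, and the
identification of the factor otherwise. -/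
theorem not_star_of_minimal {G : Type u} [Group G] [Finite G] (N : Subgroup G) [N.Normal]
    (hmin : ∀ M : Subgroup G, M.Normal → M ≤ N → M = ⊥ ∨ M = N)
    (hna : ¬ ∀ x ∈ N, ∀ y ∈ N, Commute x y) (hC : Subgroup.centralizer (N : Set G) = ⊥)
    (hrow : ∀ (S : Type u) [Group S] [Finite S] [IsSimpleGroup S], (∃ a b : S, a * b ≠ b * a) →
      Row.{u, u} S) : ¬ Star G := by
  classical
  obtain ⟨m, T, e, hm, hsimple, hTna, hTinj, hTN, hTn, hconj, htrans, he, hcoord⟩ :=
    Cfsg.Agent.PermutationGroups.OnanScott.exists_coordinates N hmin hna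
  have h0 : Row.{u, u} (T ⟨0, hm⟩) := by
    have := hsimple ⟨0, hm⟩
    exact hrow _ (hTna _)
  set o : Fin m := ⟨0, hm⟩ with ho
  rcases Nat.lt_or_ge 1 m with hm2 | hm1
  · -- at least two factors
    intro hstar
    set l : Fin m := ⟨1, hm2⟩ with hl
    have hol : o ≠ l := by simp [ho, hl]
    obtain ⟨x, hx2, θ, hθ⟩ := h0.vz
    choose g hg using fun i => htrans o i
    have := Fintype.ofFinite (T o)
    let Θ : N → ℂ := fun n => ∏ i, (θ : T o → ℂ) ((conjIso (g i) (hg i)).symm (e n i))
    have hΘ : IsIrrCharacter N Θ := by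
      have h1 := isIrr_pi (ι := Fin m) θ.2
      let E : N ≃* (Fin m → T o) := e.trans (MulEquiv.piCongrRight fun i => (conjIso (g i) (hg i)).symm)
      exact isIrr_comp (E : N →* (Fin m → T o)) E.surjective h1
    obtain ⟨χ, hχ⟩ := exists_lift N hΘ
    have hvan : ∀ n : N, e n o = x → Van G (n : G) := by
      intro n hn
      refine ⟨χ, hχ n fun k => ?_⟩
      obtain ⟨j, hj⟩ := hconj k o
      refine Finset.prod_eq_zero (Finset.mem_univ j) ?_
      have h1 := coord_conj e hTN he hcoord k o j hj n
      have h2 : e (MulAut.conjNormal k n) j = conjIso k hj x := by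
        apply Subtype.ext
        rw [h1, conjIso_apply, hn]
      rw [h2]
      exact hθ ((conjIso k hj).trans (conjIso (g j) (hg j)).symm)
    set n1 : N := e.symm (Pi.mulSingle o x) with hn1
    set y : T l := conjIso (g l) (hg l) x with hy
    set n2 : N := e.symm (Pi.mulSingle o x * Pi.mulSingle l y) with hn2
    have hx1 : x ≠ 1 := by
      rintro rfl
      simp at hx2
    have hy1 : y ≠ 1 := by
      rw [hy]
      simpa using hx1
    have e1 : e n1 o = x := by simp [hn1]
    have e2 : e n2 o = x := by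
      rw [hn2, MulEquiv.apply_symm_apply, Pi.mul_apply, Pi.mulSingle_eq_same,
        Pi.mulSingle_eq_of_ne hol, mul_one]
    have e2' : e n2 l = y := by
      rw [hn2, MulEquiv.apply_symm_apply, Pi.mul_apply, Pi.mulSingle_eq_same,
        Pi.mulSingle_eq_of_ne hol.symm, one_mul]
    have hord : ∀ n : N, e n o = x → orderOf x ∣ orderOf (n : G) := by
      intro n hn
      have h1 := orderOf_map_dvd ((Pi.evalMonoidHom (fun i => T i) o).comp (e : N →* ∀ i, T i)) n
      have h2 : ((Pi.evalMonoidHom (fun i => T i) o).comp (e : N →* ∀ i, T i)) n = x := hn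
      rw [h2] at h1
      rwa [Subgroup.orderOf_coe]
    have hc := hstar.isConj (hvan n1 e1) (hvan n2 e2) hx2 (hord n1 e1) (hord n2 e2) (orderOf_pos _)
    obtain ⟨k, hk⟩ := isConj_iff.1 hc
    have hk' : MulAut.conjNormal k n1 = n2 := Subtype.ext hk
    have hone : ∀ j : Fin m, e n2 j ≠ 1 → T j = (T o).map (MulAut.conj k).toMonoidHom := by
      intro j hj
      obtain ⟨i, hi⟩ := hconj k⁻¹ j
      have hi' : T j = (T i).map (MulAut.conj k).toMonoidHom := by
        rw [hi, Cfsg.Agent.Lib.MinNormal.map_conj_map_conj, mul_inv_cancel,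
          Cfsg.Agent.Lib.MinNormal.map_conj_one]
      have h1 := coord_conj e hTN he hcoord k i j hi' n1
      rw [hk'] at h1
      by_cases hio : i = o
      · rw [← hio]
        exact hi'
      · exfalso
        apply hj
        apply Subtype.ext
        rw [h1, hn1, MulEquiv.apply_symm_apply, Pi.mulSingle_eq_of_ne hio]
        simp
    apply hol
    apply hTinj
    rw [hone o (by rw [e2]; exact hx1), hone l (by rw [e2']; exact hy1)]
  · -- one factor
    have hm' : ∀ i : Fin m, i = o := by
      intro i
      apply Fin.ext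
      have := i.2
      simp only [ho]
      omega
    have hNT : N = T o := by
      apply le_antisymm _ (hTN o)
      intro n hn
      have h1 : (⟨n, hn⟩ : N) = e.symm (Pi.mulSingle o (e ⟨n, hn⟩ o)) := by
        apply e.injective
        rw [MulEquiv.apply_symm_apply]
        funext i
        rw [hm' i, Pi.mulSingle_eq_same]
      have h2 := congrArg (Subtype.val : N → G) h1
      rw [he] at h2
      rw [show n = ((⟨n, hn⟩ : N) : G) from rfl, h2]
      exact (e ⟨n, hn⟩ o).2
    refine h0.as G (T o).subtype (Subgroup.subtype_injective _) ?_ ?_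
    · rw [Subgroup.range_subtype, ← hNT]
      infer_instance
    · rw [Subgroup.range_subtype, ← hNT]
      exact hC

/-- The reduction: if all finite non-abelian simple groups have a row, then a finite group with
the property `Star` is solvable. -/
theorem solvable_of_rows
    (hrow : ∀ (S : Type u) [Group S] [Finite S] [IsSimpleGroup S], (∃ a b : S, a * b ≠ b * a) →
      Row.{u, u} S) :
    ∀ (n : ℕ) (G : Type u) [Group G] [Finite G], Nat.card G ≤ n → Star G → Group.IsSolvable G := by
  intro n
  induction n with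
  | zero =>
    intro G _ _ hn
    have := Nat.card_pos (α := G)
    omega
  | succ n ih =>
    intro G _ _ hn hG
    by_cases htriv : Subsingleton G
    · infer_instance
    rw [not_subsingleton_iff_nontrivial] at htriv
    have hquot : ∀ (K : Subgroup G) [K.Normal], K ≠ ⊥ → Group.IsSolvable (G ⧸ K) := by
      intro K hK hK1
      refine ih (G ⧸ K) ?_ (hG.of_surjective (QuotientGroup.mk' K) (QuotientGroup.mk'_surjective K))
      have h1 := Subgroup.card_eq_card_quotient_mul_card_subgroup K
      have h2 : 1 < Nat.card K := by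
        rw [Subgroup.one_lt_card_iff_ne_bot]
        exact hK1
      have h3 := Nat.card_pos (α := G ⧸ K)
      have h4 : Nat.card (G ⧸ K) * 2 ≤ Nat.card (G ⧸ K) * Nat.card K := Nat.mul_le_mul_left _ h2
      omega
    obtain ⟨N, hN, hNne, hNmin⟩ : ∃ N : Subgroup G, N.Normal ∧ N ≠ ⊥ ∧
        ∀ M : Subgroup G, M.Normal → M ≤ N → M = ⊥ ∨ M = N := by
      have hfin : {T : Subgroup G | T.Normal ∧ T ≠ ⊥}.Finite := Set.toFinite _
      have hne : {T : Subgroup G | T.Normal ∧ T ≠ ⊥}.Nonempty := ⟨⊤, inferInstance, top_ne_bot⟩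
      obtain ⟨T, ⟨hT0, hTn⟩, hTmin⟩ := hfin.exists_minimal hne
      refine ⟨T, hT0, hTn, fun S hS hST => ?_⟩
      by_cases hS0 : S = ⊥
      · exact Or.inl hS0
      · exact Or.inr (le_antisymm hST (hTmin ⟨hS, hS0⟩ hST))
    have hext : Group.IsSolvable N → Group.IsSolvable G := by
      intro h1
      have h2 := hquot N hNne
      exact Group.isSolvable_of_ker_le_range N.subtype (QuotientGroup.mk' N) (by simp)
    by_cases hna : ∀ x ∈ N, ∀ y ∈ N, Commute x y
    · apply hext
      exact Group.isSolvable_of_comm fun a b => Subtype.ext (hna a a.2 b b.2)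
    · by_cases hC : Subgroup.centralizer (N : Set G) = ⊥
      · exact absurd hG (not_star_of_minimal N hNmin hna hC hrow)
      · apply hext
        have h2 := hquot _ hC
        have hdisj : Subgroup.centralizer (N : Set G) ⊓ N = ⊥ := by
          rcases hNmin (Subgroup.centralizer (N : Set G) ⊓ N) inferInstance inf_le_right with h | h
          · exact h
          · exfalso
            apply hna
            intro x hx y hy
            have h3 : x ∈ Subgroup.centralizer (N : Set G) := by
              have : x ∈ Subgroup.centralizer (N : Set G) ⊓ N := by rw [h]; exact hx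
              exact this.1
            exact (Subgroup.mem_centralizer_iff.1 h3 y hy).symm
        let f : N →* G ⧸ Subgroup.centralizer (N : Set G) :=
          (QuotientGroup.mk' (Subgroup.centralizer (N : Set G))).comp N.subtype
        have hf : Function.Injective f := by
          rw [injective_iff_map_eq_one]
          intro a ha
          have h4 : (a : G) ∈ Subgroup.centralizer (N : Set G) := by
            have : ((a : G) : G ⧸ Subgroup.centralizer (N : Set G)) = 1 := ha
            rwa [QuotientGroup.eq_one_iff] at this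
          have h5 : (a : G) ∈ Subgroup.centralizer (N : Set G) ⊓ N := ⟨h4, a.2⟩
          rw [hdisj, Subgroup.mem_bot] at h5
          exact Subtype.ext h5
        exact Group.isSolvable_of_isSolvable_injective hf

end Cfsg.Agent.H713

private theorem dce_0844eaa039ea : _root_.True := by
  try have : _root_.True := by simp only [_root_.Cfsg.Agent.H713.conjIso.congr_simp]
  exact _root_.True.intro
end

-- part: H690/Reduce
section
set_option linter.all false
open scoped Cfsg.Agent.FastGrp

/-!
# Vanishing elements: reduction to simple sections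

* `van_of_minimal` : a non-abelian minimal normal subgroup has a simple factor `T` such that all `VZ` elements of `T`
  are vanishing elements of `G`;
* `exists_section` : every non-solvable finite group `G` has a quotient `G ⧸ N` with a non-abelian simple subgroup `T`
  all of whose `VZ` elements are vanishing elements of `G ⧸ N`;
* `vz_of_degree` : `p`-defect zero characters give `VZ` elements.
-/

set_option autoImplicit false

namespace Cfsg.Agent.H690.Reduce

open Cfsg Cfsg.Agent.Characters.Core Cfsg.Agent.H713 Subgroup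

universe u

/-- A non-abelian minimal normal subgroup has a simple factor all of whose `VZ` elements are vanishing elements. -/
theorem van_of_minimal {G : Type u} [Group G] [Finite G] (N : Subgroup G) [N.Normal]
    (hmin : ∀ M : Subgroup G, M.Normal → M ≤ N → M = ⊥ ∨ M = N)
    (hna : ¬ ∀ x ∈ N, ∀ y ∈ N, Commute x y) :
    ∃ T : Subgroup G, T ≤ N ∧ IsSimpleGroup T ∧ (∃ a b : T, a * b ≠ b * a) ∧ ∀ x : T, VZ T x → Van G (x : G) := by
  classical
  obtain ⟨m, T, e, hm, hsimple, hTna, hTinj, hTN, hTn, hconj, htrans, he, hcoord⟩ :=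
    Cfsg.Agent.PermutationGroups.OnanScott.exists_coordinates N hmin hna
  set o : Fin m := ⟨0, hm⟩ with ho
  refine ⟨T o, hTN o, hsimple o, hTna o, ?_⟩
  intro x hx
  obtain ⟨θ, hθ⟩ := hx
  choose g hg using fun i => htrans o i
  have := Fintype.ofFinite (T o)
  let Θ : N → ℂ := fun n => ∏ i, (θ : T o → ℂ) ((conjIso (g i) (hg i)).symm (e n i))
  have hΘ : IsIrrCharacter N Θ := by
    have h1 := isIrr_pi (ι := Fin m) θ.2
    let E : N ≃* (Fin m → T o) := e.trans (MulEquiv.piCongrRight fun i => (conjIso (g i) (hg i)).symm)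
    exact isIrr_comp (E : N →* (Fin m → T o)) E.surjective h1
  obtain ⟨χ, hχ⟩ := exists_lift N hΘ
  have hvan : ∀ n : N, e n o = x → Van G (n : G) := by
    intro n hn
    refine ⟨χ, hχ n fun k => ?_⟩
    obtain ⟨j, hj⟩ := hconj k o
    refine Finset.prod_eq_zero (Finset.mem_univ j) ?_
    have h1 := coord_conj e hTN he hcoord k o j hj n
    have h2 : e (MulAut.conjNormal k n) j = conjIso k hj x := by
      apply Subtype.ext
      rw [h1, conjIso_apply, hn]
    rw [h2]
    exact hθ ((conjIso k hj).trans (conjIso (g j) (hg j)).symm)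
  have h1 := hvan (e.symm (Pi.mulSingle o x)) (by simp)
  rwa [he] at h1

/-- Every non-solvable finite group has a quotient with a non-abelian simple subgroup all of whose `VZ` elements are
vanishing elements. -/
theorem exists_section : ∀ (n : ℕ) (G : Type u) [Group G] [Finite G], Nat.card G ≤ n → ¬ Group.IsSolvable G →
    ∃ (N : Subgroup G) (_ : N.Normal) (T : Subgroup (G ⧸ N)), IsSimpleGroup T ∧ (∃ a b : T, a * b ≠ b * a) ∧
      ∀ x : T, VZ T x → Van (G ⧸ N) (x : G ⧸ N) := by
  intro n
  induction n with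
  | zero =>
    intro G _ _ hn
    have := Nat.card_pos (α := G)
    omega
  | succ n ih =>
    intro G _ _ hn hG
    by_cases htriv : Subsingleton G
    · exact absurd (inferInstance : Group.IsSolvable G) hG
    rw [not_subsingleton_iff_nontrivial] at htriv
    obtain ⟨N, hN, hNne, hNmin⟩ : ∃ N : Subgroup G, N.Normal ∧ N ≠ ⊥ ∧
        ∀ M : Subgroup G, M.Normal → M ≤ N → M = ⊥ ∨ M = N := by
      have hfin : {T : Subgroup G | T.Normal ∧ T ≠ ⊥}.Finite := Set.toFinite _
      have hne : {T : Subgroup G | T.Normal ∧ T ≠ ⊥}.Nonempty := ⟨⊤, inferInstance, top_ne_bot⟩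
      obtain ⟨T, ⟨hT0, hTn⟩, hTmin⟩ := hfin.exists_minimal hne
      refine ⟨T, hT0, hTn, fun S hS hST => ?_⟩
      by_cases hS0 : S = ⊥
      · exact Or.inl hS0
      · exact Or.inr (le_antisymm hST (hTmin ⟨hS, hS0⟩ hST))
    by_cases hna : ∀ x ∈ N, ∀ y ∈ N, Commute x y
    · -- abelian minimal normal subgroup: pass to the quotient
      have hGN : ¬ Group.IsSolvable (G ⧸ N) := by
        intro h
        apply hG
        have h1 : Group.IsSolvable N :=
          Group.isSolvable_of_comm fun a b => Subtype.ext (hna a a.2 b b.2)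
        exact Group.isSolvable_of_ker_le_range N.subtype (QuotientGroup.mk' N) (by simp)
      have hcard : Nat.card (G ⧸ N) ≤ n := by
        have h1 := Subgroup.card_eq_card_quotient_mul_card_subgroup N
        have h2 : 1 < Nat.card N := by
          rw [Subgroup.one_lt_card_iff_ne_bot]
          exact hNne
        have h3 := Nat.card_pos (α := G ⧸ N)
        have h4 : Nat.card (G ⧸ N) * 2 ≤ Nat.card (G ⧸ N) * Nat.card N := Nat.mul_le_mul_left _ h2
        omega
      obtain ⟨M, hM, T, h1, h2, h3⟩ := ih (G ⧸ N) hcard hGN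
      let M' : Subgroup G := M.comap (QuotientGroup.mk' N)
      have hM' : M'.Normal := hM.comap _
      let f : G ⧸ M' ≃* (G ⧸ N) ⧸ M := by
        refine MulEquiv.ofBijective (QuotientGroup.map M' M (QuotientGroup.mk' N) le_rfl) ⟨?_, ?_⟩
        · rw [injective_iff_map_eq_one]
          intro a
          induction a using QuotientGroup.induction_on with
          | _ a =>
          intro ha
          rw [QuotientGroup.map_mk] at ha
          rw [QuotientGroup.eq_one_iff]
          exact (QuotientGroup.eq_one_iff (N := M) (QuotientGroup.mk' N a)).1 ha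
        · intro b
          induction b using QuotientGroup.induction_on with
          | _ b =>
          induction b using QuotientGroup.induction_on with
          | _ b =>
          exact ⟨(b : G ⧸ M'), rfl⟩
      refine ⟨M', hM', T.comap f.toMonoidHom, ?_⟩
      let g : T.comap f.toMonoidHom ≃* T :=
        { toFun := fun x => ⟨f x, x.2⟩
          invFun := fun y => ⟨f.symm y, by
            rw [Subgroup.mem_comap]
            show f (f.symm y) ∈ T
            rw [MulEquiv.apply_symm_apply]
            exact y.2⟩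
          left_inv := fun x => Subtype.ext (f.symm_apply_apply _)
          right_inv := fun y => Subtype.ext (f.apply_symm_apply _)
          map_mul' := fun x y => Subtype.ext (map_mul f _ _) }
      refine ⟨g.isSimpleGroup, ?_, ?_⟩
      · obtain ⟨a, b, hab⟩ := h2
        refine ⟨g.symm a, g.symm b, fun h => hab ?_⟩
        apply g.symm.injective
        rw [map_mul, map_mul, h]
      · intro x hx
        have h4 := h3 (g x) (hx.mulEquiv g)
        have h5 : ((g x : T) : (G ⧸ N) ⧸ M) = f x := rfl
        rw [h5] at h4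
        exact h4.of_surjective f.toMonoidHom f.surjective
    · obtain ⟨T, -, h1, h2, h3⟩ := van_of_minimal N hNmin hna
      refine ⟨⊥, inferInstance, T.map (QuotientGroup.mk' ⊥), ?_⟩
      let f : G ≃* G ⧸ (⊥ : Subgroup G) := QuotientGroup.quotientBot.symm
      have hf : ∀ x : G, f x = QuotientGroup.mk' ⊥ x := by
        intro x
        apply QuotientGroup.quotientBot.injective
        simp [f]
      let g : T ≃* T.map (QuotientGroup.mk' (⊥ : Subgroup G)) :=
        T.equivMapOfInjective _ (by
          intro x y hxy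
          rw [← hf, ← hf] at hxy
          exact f.injective hxy)
      refine ⟨g.symm.isSimpleGroup, ?_, ?_⟩
      · obtain ⟨a, b, hab⟩ := h2
        refine ⟨g a, g b, fun h => hab ?_⟩
        apply g.injective
        rw [map_mul, map_mul, h]
      · intro x hx
        have h4 := h3 (g.symm x) (hx.mulEquiv g.symm)
        have h5 : (x : G ⧸ (⊥ : Subgroup G)) = f (g.symm x : T) := by
          rw [hf]
          have h6 : ((g (g.symm x)) : G ⧸ (⊥ : Subgroup G)) = QuotientGroup.mk' ⊥ ((g.symm x : T) : G) := rfl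
          rw [← h6, MulEquiv.apply_symm_apply]
        rw [h5]
        refine Van.of_surjective f.symm.toMonoidHom f.symm.surjective ?_
        show Van G (f.symm (f _))
        rw [MulEquiv.symm_apply_apply]
        exact h4

/-- Characters of `p`-defect zero give `VZ` elements. -/
theorem vz_of_degree {G : Type*} [Group G] [Finite G] {p : ℕ} [hp : Fact p.Prime] {χ : G → ℂ}
    (hχ : IsIrrCharacter G χ) {d : ℕ} (hd : χ 1 = d) (P : Sylow p G) (hdvd : Nat.card P ∣ d) {x : G}
    (hx : p ∣ orderOf x) : VZ G x := by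
  refine ⟨⟨χ, hχ⟩, fun α => ?_⟩
  obtain ⟨n, ρ, hρ, rfl⟩ := hχ
  have := hρ
  have hfr : Module.finrank ℂ (Fin n → ℂ) = d := by
    rw [Representation.char_one] at hd
    exact_mod_cast hd
  obtain ⟨k, hk⟩ := (IsPGroup.iff_card).1 P.2
  refine Cfsg.Agent.S0165.result ρ p k hp.1 ?_ ?_ ?_ (α x) ?_
  · rw [← hk]
    exact Subgroup.card_subgroup_dvd_card _
  · have h1 := P.card_eq_multiplicity
    rw [hk] at h1
    have h2 : k = (Nat.card G).factorization p := Nat.pow_right_injective hp.1.two_le h1
    rw [h2]
    exact Nat.pow_succ_factorization_not_dvd Nat.card_pos.ne' hp.1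
  · rw [hfr, ← hk]
    exact hdvd
  · rwa [MulEquiv.orderOf_eq]

end Cfsg.Agent.H690.Reduce
end

-- part: H714/RowTools
section
set_option linter.all false
open scoped Cfsg.Agent.FastGrp

/-!
# Tools for the rows of S4943 (helper714)

* `row_of_pair` : two `VZ` elements with orders having a common divisor greater than two, not conjugate under
  automorphisms, give a row.
-/

set_option autoImplicit false

namespace Cfsg.Agent.H714.RowTools

open Cfsg Cfsg.Agent.H713

universe u v w

/-- Elements of a normal subgroup conjugate in the big group are conjugate by an automorphism. -/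
theorem exists_aut_of_isConj {S : Type v} [Group S] {G : Type u} [Group G] (f : S →* G)
    (hf : Function.Injective f) (hn : f.range.Normal) {x y : S} (h : IsConj (f x) (f y)) :
    ∃ α : MulAut S, α x = y ∧ ∃ g : G, ∀ s : S, f (α s) = g * f s * g⁻¹ := by
  obtain ⟨g, hg⟩ := isConj_iff.1 h
  let e : S ≃* f.range := MonoidHom.ofInjective hf
  have he : ∀ s : S, ((e s : f.range) : G) = f s := fun s => rfl
  have hes : ∀ r : f.range, f (e.symm r) = (r : G) := by
    intro r
    rw [← he, MulEquiv.apply_symm_apply]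
  refine ⟨(e.trans (MulAut.conjNormal g)).trans e.symm, ?_, g, ?_⟩
  · apply hf
    simp only [MulEquiv.trans_apply]
    rw [hes, MulAut.conjNormal_apply, he, hg]
  · intro s
    simp only [MulEquiv.trans_apply]
    rw [hes, MulAut.conjNormal_apply, he]

/-- Rows from a pair of elements. -/
theorem row_of_pair {S : Type v} [Group S] [Finite S] {x y : S} (hx : VZ S x) (hy : VZ S y) {d : ℕ}
    (hd : 2 < d) (hdx : d ∣ orderOf x) (hdy : d ∣ orderOf y) (hxy : ∀ α : MulAut S, α x ≠ y) :
    Row.{u, v} S where
  vz := ⟨x, lt_of_lt_of_le hd (Nat.le_of_dvd (orderOf_pos x) hdx), hx⟩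
  as := by
    intro G _ _ f hf hn _ hstar
    have h1 : IsConj (f x) (f y) :=
      hstar.isConj (van_of_vz f hf hn hx) (van_of_vz f hf hn hy) hd
        (by rwa [orderOf_injective f hf]) (by rwa [orderOf_injective f hf]) (orderOf_pos _)
    obtain ⟨α, hα, _⟩ := exists_aut_of_isConj f hf hn h1
    exact hxy α hα

/-- Rows from a pair of elements of different orders. -/
theorem row_of_orders {S : Type v} [Group S] [Finite S] {x y : S} (hx : VZ S x) (hy : VZ S y) {d : ℕ}
    (hd : 2 < d) (hdx : d ∣ orderOf x) (hdy : d ∣ orderOf y) (hxy : orderOf x ≠ orderOf y) :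
    Row.{u, v} S :=
  row_of_pair hx hy hd hdx hdy fun α h => hxy (by rw [← h]; exact (MulEquiv.orderOf_eq α x).symm)

end Cfsg.Agent.H714.RowTools
end

-- part: H690/LThreeFour
section
set_option linter.all false
open scoped Cfsg.Agent.FastGrp

/-!
# `VZ` elements of order five in `PSL₃(4)`
-/

set_option autoImplicit false

namespace Cfsg.Agent.H690.LThreeFour

open Cfsg MulAction Cfsg.Agent.H713

theorem two_trans (n : ℕ) (F : Type*) [Field F] :
    IsMultiplyPretransitive (Matrix.ProjectiveSpecialLinearGroup (Fin n) F)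
      (Projectivization F (Fin n → F)) 2 :=
  let f : Projectivization F (Fin n → F) →ₑ[(QuotientGroup.mk' (Subgroup.center (Matrix.SpecialLinearGroup (Fin n) F)) :
      Matrix.SpecialLinearGroup (Fin n) F →* Matrix.ProjectiveSpecialLinearGroup (Fin n) F)]
      Projectivization F (Fin n → F) :=
    { toFun := id
      map_smul' _ _ := rfl }
  IsPretransitive.of_embedding (f := f) Function.surjective_id

/-- Elements of order divisible by five in `PSL₃(4)` are `VZ`. -/
theorem vz_five {F : Type*} [Field F] [Fintype F] (hF : Fintype.card F = 4)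
    {x : Matrix.ProjectiveSpecialLinearGroup (Fin 3) F} (hx : 5 ∣ orderOf x) : VZ _ x := by
  classical
  have : Fact (Nat.Prime 5) := ⟨by norm_num⟩
  have h2 := two_trans 3 F
  have hc : Nat.card (Projectivization F (Fin 3 → F)) = 21 := by
    have h3 := Projectivization.card_of_finrank F (Fin 3 → F) (n := 3) (by simp)
    rw [h3, Nat.card_eq_fintype_card, hF]
    rfl
  have : Finite (Projectivization F (Fin 3 → F)) := Nat.finite_of_card_ne_zero (by omega)
  have h1 : IsPretransitive (Matrix.ProjectiveSpecialLinearGroup (Fin 3) F)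
      (Projectivization F (Fin 3 → F)) := isPretransitive_of_is_two_pretransitive
  have h3 := (Cfsg.Agent.S0157.result (Projectivization F (Fin 3 → F)) (by rw [hc]; norm_num)).2 h2
  have h4 : (fixedBy (Projectivization F (Fin 3 → F))
      (1 : Matrix.ProjectiveSpecialLinearGroup (Fin 3) F)) = Set.univ := fixedBy_one_eq_univ _ _
  have h5 : (fun g : Matrix.ProjectiveSpecialLinearGroup (Fin 3) F =>
      (Nat.card (fixedBy (Projectivization F (Fin 3 → F)) g) : ℂ) - 1) 1 = ((20 : ℕ) : ℂ) := by
    change ((Nat.card ↥(fixedBy (Projectivization F (Fin 3 → F))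
      (1 : Matrix.ProjectiveSpecialLinearGroup (Fin 3) F)) : ℕ) : ℂ) - 1 = _
    rw [h4, Nat.card_univ, hc]
    push_cast
    ring
  have P : Sylow 5 (Matrix.ProjectiveSpecialLinearGroup (Fin 3) F) := default
  refine Reduce.vz_of_degree h3 h5 P ?_ hx
  have h6 : Nat.card P ∣ Nat.card (Matrix.SpecialLinearGroup (Fin 3) F) :=
    (Subgroup.card_subgroup_dvd_card _).trans (Subgroup.card_quotient_dvd_card _)
  have h7 : Nat.card (Matrix.SpecialLinearGroup (Fin 3) F) * 3 = 181440 := by
    have h8 := Cfsg.Agent.ClassicalGeometry.PSL2Basic.card_SL_mul (Fin 3) F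
    rw [Matrix.card_GL_field, Fin.prod_univ_three, hF] at h8
    simpa using h8
  have h8 : Nat.card (Matrix.SpecialLinearGroup (Fin 3) F) = 5 * 12096 := by omega
  obtain ⟨k, hk⟩ := (IsPGroup.iff_card).1 P.2
  rw [hk] at h6 ⊢
  have h9 : k ≤ 1 := by
    by_contra hcon
    have h10 : 5 ^ 2 ∣ 5 * 12096 := by
      rw [← h8]
      exact (pow_dvd_pow 5 (by omega)).trans h6
    norm_num at h10
  exact (pow_dvd_pow 5 h9).trans (by norm_num)

end Cfsg.Agent.H690.LThreeFour
end

-- part: H620/Reduce
section
set_option linter.all false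
open scoped Cfsg.Agent.FastGrp

/-!
# Reduction of S4556 and S4557 to simple groups (helper620)

* `van_of_minimal`: a minimal normal subgroup that is not abelian contains a non-abelian simple
  group `T` all of whose `VZ` elements are vanishing elements of `G`.
* `Row56 S`, `Row57 S`: what has to be shown for each non-abelian simple group.
* `solvable_of_row57`: S4557 from the rows.
* `solvable_of_row56`: solvability in S4556 from the rows.
-/

set_option autoImplicit false
set_option linter.dupNamespace false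

namespace Cfsg.Agent.H620

open Cfsg Cfsg.Agent.Characters.Core Cfsg.Agent.Characters.Clifford Subgroup Cfsg.Agent.H713

universe u v w

/-- A minimal normal subgroup that is not abelian contains a simple group all of whose
`VZ` elements are vanishing elements of `G`. -/
theorem van_of_minimal {G : Type u} [Group G] [Finite G] (N : Subgroup G) [N.Normal]
    (hmin : ∀ M : Subgroup G, M.Normal → M ≤ N → M = ⊥ ∨ M = N)
    (hna : ¬ ∀ x ∈ N, ∀ y ∈ N, Commute x y) :
    ∃ T : Subgroup G, IsSimpleGroup T ∧ (∃ a b : T, a * b ≠ b * a) ∧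
      ∀ x : T, VZ T x → Van G (x : G) := by
  classical
  obtain ⟨m, T, e, hm, hsimple, hTna, hTinj, hTN, hTn, hconj, htrans, he, hcoord⟩ :=
    Cfsg.Agent.PermutationGroups.OnanScott.exists_coordinates N hmin hna
  set o : Fin m := ⟨0, hm⟩ with ho
  refine ⟨T o, hsimple o, hTna o, ?_⟩
  intro x hx
  obtain ⟨θ, hθ⟩ := hx
  choose g hg using fun i => htrans o i
  have := Fintype.ofFinite (T o)
  let Θ : N → ℂ := fun n => ∏ i, (θ : T o → ℂ) ((conjIso (g i) (hg i)).symm (e n i))
  have hΘ : IsIrrCharacter N Θ := by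
    have h1 := isIrr_pi (ι := Fin m) θ.2
    let E : N ≃* (Fin m → T o) := e.trans (MulEquiv.piCongrRight fun i => (conjIso (g i) (hg i)).symm)
    exact isIrr_comp (E : N →* (Fin m → T o)) E.surjective h1
  obtain ⟨χ, hχ⟩ := exists_lift N hΘ
  have hvan : ∀ n : N, e n o = x → Van G (n : G) := by
    intro n hn
    refine ⟨χ, hχ n fun k => ?_⟩
    obtain ⟨j, hj⟩ := hconj k o
    refine Finset.prod_eq_zero (Finset.mem_univ j) ?_
    have h1 := coord_conj e hTN he hcoord k o j hj n
    have h2 : e (MulAut.conjNormal k n) j = conjIso k hj x := by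
      apply Subtype.ext
      rw [h1, conjIso_apply, hn]
    rw [h2]
    exact hθ ((conjIso k hj).trans (conjIso (g j) (hg j)).symm)
  have h3 := hvan (e.symm (Pi.mulSingle o x)) (by simp)
  rwa [he] at h3

/-- What has to be shown for S4556. -/
def Row56 (S : Type*) [Group S] : Prop :=
  ∀ p : ℕ, p.Prime → ∃ x : S, VZ S x ∧ ¬ p ∣ orderOf x

/-- What has to be shown for S4557. -/
def Row57 (S : Type*) [Group S] : Prop :=
  ∀ p q : ℕ, p.Prime → q.Prime → ∃ x : S, VZ S x ∧ ¬ ∃ a b : ℕ, orderOf x = p ^ a * q ^ b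

theorem Row56.mulEquiv {S : Type*} [Group S] {S' : Type*} [Group S'] (h : Row56 S)
    (e : S ≃* S') : Row56 S' := by
  intro p hp
  obtain ⟨x, hx, h1⟩ := h p hp
  exact ⟨e x, hx.mulEquiv e, by rwa [MulEquiv.orderOf_eq]⟩

theorem Row57.mulEquiv {S : Type*} [Group S] {S' : Type*} [Group S'] (h : Row57 S)
    (e : S ≃* S') : Row57 S' := by
  intro p q hp hq
  obtain ⟨x, hx, h1⟩ := h p q hp hq
  exact ⟨e x, hx.mulEquiv e, by rwa [MulEquiv.orderOf_eq]⟩

/-- A property of finite groups that passes to quotients and fails for groups with a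
non-abelian minimal normal subgroup is only satisfied by solvable groups. -/
theorem solvable_of_property (Q : ∀ (G : Type u) [Group G], Prop)
    (hQ : ∀ (G : Type u) [Group G] [Finite G] (K : Subgroup G) [K.Normal], Q G → Q (G ⧸ K))
    (hrow : ∀ (G : Type u) [Group G] [Finite G] (T : Subgroup G), IsSimpleGroup T →
      (∃ a b : T, a * b ≠ b * a) → (∀ x : T, VZ T x → Van G (x : G)) → ¬ Q G) :
    ∀ (n : ℕ) (G : Type u) [Group G] [Finite G], Nat.card G ≤ n → Q G → Group.IsSolvable G := by
  intro n
  induction n with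
  | zero =>
    intro G _ _ hn
    have := Nat.card_pos (α := G)
    omega
  | succ n ih =>
    intro G _ _ hn hG
    by_cases htriv : Subsingleton G
    · infer_instance
    rw [not_subsingleton_iff_nontrivial] at htriv
    have hquot : ∀ (K : Subgroup G) [K.Normal], K ≠ ⊥ → Group.IsSolvable (G ⧸ K) := by
      intro K hK hK1
      refine ih (G ⧸ K) ?_ (hQ G K hG)
      have h1 := Subgroup.card_eq_card_quotient_mul_card_subgroup K
      have h2 : 1 < Nat.card K := by
        rw [Subgroup.one_lt_card_iff_ne_bot]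
        exact hK1
      have h3 := Nat.card_pos (α := G ⧸ K)
      have h4 : Nat.card (G ⧸ K) * 2 ≤ Nat.card (G ⧸ K) * Nat.card K := Nat.mul_le_mul_left _ h2
      omega
    obtain ⟨N, hN, hNne, hNmin⟩ : ∃ N : Subgroup G, N.Normal ∧ N ≠ ⊥ ∧
        ∀ M : Subgroup G, M.Normal → M ≤ N → M = ⊥ ∨ M = N := by
      have hfin : {T : Subgroup G | T.Normal ∧ T ≠ ⊥}.Finite := Set.toFinite _
      have hne : {T : Subgroup G | T.Normal ∧ T ≠ ⊥}.Nonempty := ⟨⊤, inferInstance, top_ne_bot⟩
      obtain ⟨T, ⟨hT0, hTn⟩, hTmin⟩ := hfin.exists_minimal hne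
      refine ⟨T, hT0, hTn, fun S hS hST => ?_⟩
      by_cases hS0 : S = ⊥
      · exact Or.inl hS0
      · exact Or.inr (le_antisymm hST (hTmin ⟨hS, hS0⟩ hST))
    by_cases hna : ∀ x ∈ N, ∀ y ∈ N, Commute x y
    · have h1 : Group.IsSolvable N :=
        Group.isSolvable_of_comm fun a b => Subtype.ext (hna a a.2 b b.2)
      have h2 := hquot N hNne
      exact Group.isSolvable_of_ker_le_range N.subtype (QuotientGroup.mk' N) (by simp)
    · obtain ⟨T, hT, hTna, hTv⟩ := van_of_minimal N hNmin hna
      exact absurd hG (hrow G T hT hTna hTv)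

/-- S4557 from the rows. -/
theorem solvable_of_row57
    (hrow : ∀ (S : Type u) [Group S] [Finite S] [IsSimpleGroup S], (∃ a b : S, a * b ≠ b * a) →
      Row57 S)
    {G : Type u} [Group G] [Finite G] (p q : ℕ) (hp : p.Prime) (hq : q.Prime)
    (h : ∀ g : G, Van G g → ∃ a b : ℕ, orderOf g = p ^ a * q ^ b) : Group.IsSolvable G := by
  refine solvable_of_property
    (fun H _ => ∀ g : H, Van H g → ∃ a b : ℕ, orderOf g = p ^ a * q ^ b) ?_ ?_ _ G le_rfl h
  · intro G _ _ K _ hG g hg
    obtain ⟨g, rfl⟩ := QuotientGroup.mk'_surjective K g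
    obtain ⟨a, b, hab⟩ := hG g (hg.of_surjective _ (QuotientGroup.mk'_surjective K))
    have h1 := orderOf_map_dvd (QuotientGroup.mk' K) g
    rw [hab] at h1
    obtain ⟨c, d, hc, hd, hcd⟩ := exists_dvd_and_dvd_of_dvd_mul h1
    obtain ⟨a', -, rfl⟩ := (Nat.dvd_prime_pow hp).1 hc
    obtain ⟨b', -, rfl⟩ := (Nat.dvd_prime_pow hq).1 hd
    exact ⟨a', b', hcd⟩
  · intro G _ _ T hT hTna hTv hG
    obtain ⟨x, hx, hx1⟩ := hrow T hTna p q hp hq
    apply hx1
    obtain ⟨a, b, hab⟩ := hG _ (hTv x hx)
    exact ⟨a, b, by rw [← hab, Subgroup.orderOf_coe]⟩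

/-- Every element is congruent, modulo a normal subgroup, to an element of order prime to `p`, if
its image has order prime to `p`. -/
theorem exists_lift_coprime {G : Type*} [Group G] [Finite G] {H : Type*} [Group H] (f : G →* H)
    (p : ℕ) (hp : p.Prime) (g : G) (hg : ¬ p ∣ orderOf (f g)) :
    ∃ g' : G, f g' = f g ∧ ¬ p ∣ orderOf g' ∧ g' ∈ Subgroup.zpowers g := by
  have hpos : orderOf g ≠ 0 := (orderOf_pos g).ne'
  set P := ordProj[p] (orderOf g) with hP
  set M := ordCompl[p] (orderOf g) with hM
  have hPM : P * M = orderOf g := Nat.ordProj_mul_ordCompl_eq_self _ p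
  have hcop : Nat.Coprime P M := Nat.Coprime.pow_left _ (Nat.coprime_ordCompl hp hpos)
  obtain ⟨c, hc1, hc2⟩ := Nat.chineseRemainder hcop 0 1
  refine ⟨g ^ c, ?_, ?_, Subgroup.pow_mem _ (Subgroup.mem_zpowers g) c⟩
  · rw [map_pow]
    have h1 : orderOf (f g) ∣ M := by
      have h2 : orderOf (f g) ∣ P * M := by
        rw [hPM]; exact orderOf_map_dvd f g
      have h3 : Nat.Coprime (orderOf (f g)) P := by
        apply Nat.Coprime.pow_right
        exact ((Nat.Prime.coprime_iff_not_dvd hp).2 hg).symm
      exact h3.dvd_of_dvd_mul_left h2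
    have h4 : c ≡ 1 [MOD orderOf (f g)] := hc2.of_dvd h1
    have h5 := pow_eq_pow_iff_modEq.2 h4
    rwa [pow_one] at h5
  · have h1 : (g ^ c) ^ M = 1 := by
      rw [← pow_mul]
      apply orderOf_dvd_iff_pow_eq_one.1
      rw [← hPM]
      exact Nat.mul_dvd_mul (Nat.modEq_zero_iff_dvd.1 hc1) dvd_rfl
    intro h2
    have h3 := h2.trans (orderOf_dvd_of_pow_eq_one h1)
    exact Nat.not_dvd_ordCompl hp hpos h3

/-- The hypothesis of S4556 passes to quotients. -/
theorem hyp56_quot {G : Type*} [Group G] [Finite G] {p : ℕ} (hp : p.Prime) (K : Subgroup G)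
    [K.Normal] (h : ∀ g : G, Van G g → p ∣ orderOf g) :
    ∀ g : G ⧸ K, Van (G ⧸ K) g → p ∣ orderOf g := by
  intro g hg
  obtain ⟨g, rfl⟩ := QuotientGroup.mk'_surjective K g
  by_contra hcon
  obtain ⟨g', h1, h2, -⟩ := exists_lift_coprime (QuotientGroup.mk' K) p hp g hcon
  rw [← h1] at hg
  exact h2 (h g' (hg.of_surjective _ (QuotientGroup.mk'_surjective K)))

/-- The solvability in S4556 from the rows. -/
theorem solvable_of_row56
    (hrow : ∀ (S : Type u) [Group S] [Finite S] [IsSimpleGroup S], (∃ a b : S, a * b ≠ b * a) →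
      Row56 S)
    {G : Type u} [Group G] [Finite G] (p : ℕ) (hp : p.Prime)
    (h : ∀ g : G, Van G g → p ∣ orderOf g) : Group.IsSolvable G := by
  refine solvable_of_property
    (fun H _ => ∀ g : H, Van H g → p ∣ orderOf g) ?_ ?_ _ G le_rfl h
  · intro G _ _ K _ hG
    exact hyp56_quot hp K hG
  · intro G _ _ T hT hTna hTv hG
    obtain ⟨x, hx, hx1⟩ := hrow T hTna p hp
    apply hx1
    rw [← Subgroup.orderOf_coe]
    exact hG _ (hTv x hx)

end Cfsg.Agent.H620
end

-- part: H669/TensExt
section
prune_inst 0x808080000000000000000000000000014010000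
set_option linter.all false
open scoped Cfsg.Agent.FastGrp

/-!
# Tensor induction: extension of product characters from a minimal normal subgroup (helper669)

* `exists_tensor` : the character of `G` obtained from a character `ψ` of `A` by tensor induction along a cocycle
  `a : G → ι → A` over a permutation action `G → Sym(ι)`;
* `exists_extension` : `N` a non-abelian minimal normal subgroup of `G`, `T i` its factors, `α ∈ Irr(T 0)` which extends
  to `Aut(T 0)`: the product of copies of `α` extends to an irreducible character of `G`.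
-/

set_option autoImplicit false

namespace Cfsg.Agent.H669.TensExt

open Cfsg Cfsg.Agent.Characters.Core Cfsg.Agent.H713

universe u v w

section tensor

variable {G : Type u} {A : Type v} {ι : Type w} [Group G] [Group A] [Fintype ι] [DecidableEq ι]

/-- The matrices of the tensor induced representation. -/
def tmat {d : ℕ} (R : A →* Matrix (Fin d) (Fin d) ℂ) (π : G →* Equiv.Perm ι) (a : G → ι → A) (g : G) :
    Matrix (ι → Fin d) (ι → Fin d) ℂ :=
  Matrix.of fun x y => ∏ i, R (a g i) (x (π g i)) (y i)

theorem tmat_mul {d : ℕ} (R : A →* Matrix (Fin d) (Fin d) ℂ) (π : G →* Equiv.Perm ι) (a : G → ι → A)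
    (ha : ∀ g h i, a (g * h) i = a g (π h i) * a h i) (g h : G) :
    tmat R π a (g * h) = tmat R π a g * tmat R π a h := by
  ext x z
  rw [Matrix.mul_apply]
  simp only [tmat, Matrix.of_apply]
  have e1 : ∀ i, R (a (g * h) i) (x (π (g * h) i)) (z i) =
      ∑ k, R (a g (π h i)) (x (π g (π h i))) k * R (a h i) k (z i) := by
    intro i
    rw [ha, map_mul, Matrix.mul_apply, map_mul]
    rfl
  rw [Finset.prod_congr rfl fun i _ => e1 i, Finset.prod_univ_sum, Fintype.piFinset_univ]
  rw [← Equiv.sum_comp (Equiv.arrowCongr (π h).symm (Equiv.refl (Fin d)))]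
  refine Finset.sum_congr rfl fun w _ => ?_
  rw [← Equiv.prod_comp (π h) (fun j => R (a g j) (x (π g j)) _), ← Finset.prod_mul_distrib]
  refine Finset.prod_congr rfl fun i _ => ?_
  simp [Equiv.arrowCongr]

omit [DecidableEq ι] in
theorem tmat_one {d : ℕ} (R : A →* Matrix (Fin d) (Fin d) ℂ) (π : G →* Equiv.Perm ι) (a : G → ι → A)
    (ha : ∀ g h i, a (g * h) i = a g (π h i) * a h i) : tmat R π a 1 = 1 := by
  have h1 : ∀ i, a 1 i = 1 := by
    intro i
    have := ha 1 1 i
    rw [mul_one, map_one] at this
    exact (mul_eq_right.1 this.symm)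
  ext x y
  simp only [tmat, Matrix.of_apply, h1, map_one, Equiv.Perm.coe_one, id_eq]
  by_cases hxy : x = y
  · subst hxy
    simp
  · obtain ⟨i, hi⟩ := Function.ne_iff.1 hxy
    rw [Matrix.one_apply_ne hxy]
    exact Finset.prod_eq_zero (Finset.mem_univ i) (Matrix.one_apply_ne hi)

/-- **Tensor induction.** -/
theorem exists_tensor (π : G →* Equiv.Perm ι) (a : G → ι → A)
    (ha : ∀ g h i, a (g * h) i = a g (π h i) * a h i) {ψ : A → ℂ} (hψ : IsCharacter A ψ) :
    ∃ (V : Type w) (_ : AddCommGroup V) (_ : Module ℂ V) (_ : FiniteDimensional ℂ V) (ρ : Representation ℂ G V),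
      ∀ g, π g = 1 → ρ.character g = ∏ i, ψ (a g i) := by
  obtain ⟨d, σ, rfl⟩ := hψ
  let R : A →* Matrix (Fin d) (Fin d) ℂ := (LinearMap.toMatrixAlgEquiv' (R := ℂ) (n := Fin d)).toMonoidHom.comp σ
  let M : G →* Matrix (ι → Fin d) (ι → Fin d) ℂ :=
    { toFun := tmat R π a
      map_one' := tmat_one R π a ha
      map_mul' := tmat_mul R π a ha }
  let ρ : Representation ℂ G ((ι → Fin d) → ℂ) :=
    (Matrix.toLinAlgEquiv' (R := ℂ) (n := (ι → Fin d))).toMonoidHom.comp M
  refine ⟨_, _, _, inferInstance, ρ, fun g hg => ?_⟩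
  have h1 : ρ.character g = Matrix.trace (tmat R π a g) := by
    change LinearMap.trace ℂ _ (Matrix.toLin' (tmat R π a g)) = _
    rw [Matrix.trace_toLin'_eq]
  have h2 : ∀ i, σ.character (a g i) = ∑ k, R (a g i) k k := by
    intro i
    have h3 : Matrix.toLin' (R (a g i)) = σ (a g i) := Matrix.toLin'_toMatrix' _
    have h4 : LinearMap.trace ℂ _ (Matrix.toLin' (R (a g i))) = Matrix.trace (R (a g i)) := Matrix.trace_toLin'_eq _
    rw [h3] at h4
    exact h4
  rw [h1, Finset.prod_congr rfl fun i _ => h2 i, Finset.prod_univ_sum, Fintype.piFinset_univ, Matrix.trace]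
  refine Finset.sum_congr rfl fun x _ => ?_
  simp [tmat, hg]

end tensor

section ext

variable {G : Type u} [Group G] {m : ℕ} {N : Subgroup G} {T : Fin m → Subgroup G}
  (e : N ≃* (∀ i, T i))

/-- **Extension of product characters**, with coordinates as in `OnanScott.exists_coordinates`. -/
theorem exists_extension_coord [Finite G] (hTinj : Function.Injective T) (hTN : ∀ i, T i ≤ N)
    (hTn : ∀ i, N ≤ Subgroup.normalizer (T i : Set G))
    (hconj : ∀ (g : G) i, ∃ j, T j = (T i).map (MulAut.conj g).toMonoidHom)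
    (he : ∀ i (t : T i), ((e.symm (Pi.mulSingle i t) : N) : G) = t)
    (hc : ∀ (n : N) i, e n i = 1 ↔ ∀ t ∈ T i, Commute (n : G) t)
    (o : Fin m) (g : Fin m → G) (hg : ∀ i, T i = (T o).map (MulAut.conj (g i)).toMonoidHom)
    {α : T o → ℂ} (hα : IsIrrCharacter (T o) α) {ψ : MulAut (T o) → ℂ} (hψ : IsCharacter (MulAut (T o)) ψ)
    (hext : ∀ s, ψ (MulAut.conj s) = α s) :
    ∃ χ : G → ℂ, IsIrrCharacter G χ ∧ ∀ n : N, χ n = ∏ i, α ((conjIso (g i) (hg i)).symm (e n i)) := by
  classical
  choose f hf using hconj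
  -- the permutation action
  have hf1 : ∀ i, f 1 i = i := by
    intro i
    apply hTinj
    rw [hf, Cfsg.Agent.Lib.MinNormal.map_conj_one]
  have hf2 : ∀ x y i, f (x * y) i = f x (f y i) := by
    intro x y i
    apply hTinj
    rw [hf, hf x, hf y, Cfsg.Agent.Lib.MinNormal.map_conj_map_conj]
  let act : MulAction G (Fin m) :=
    { smul := f
      one_smul := hf1
      mul_smul := hf2 }
  let π : G →* Equiv.Perm (Fin m) := MulAction.toPermHom G (Fin m)
  have hπ : ∀ x i, π x i = f x i := fun _ _ => rfl
  -- the cocycle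
  let a : G → Fin m → MulAut (T o) := fun x i =>
    (conjIso (g i) (hg i)).trans ((conjIso x (hf x i)).trans (conjIso (g (f x i)) (hg (f x i))).symm)
  have hval : ∀ x i (s : T o), ((a x i s : T o) : G) =
      (g (f x i))⁻¹ * (x * (g i * s * (g i)⁻¹) * x⁻¹) * g (f x i) := by
    intro x i s
    have h1 : conjIso (g (f x i)) (hg (f x i)) (a x i s) = conjIso x (hf x i) (conjIso (g i) (hg i) s) := by
      exact (conjIso (g (f x i)) (hg (f x i))).apply_symm_apply _
    have h2 := congrArg (Subtype.val : T (f x i) → G) h1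
    rw [conjIso_apply, conjIso_apply, conjIso_apply] at h2
    rw [← h2]
    group
  have ha : ∀ x y i, a (x * y) i = a x (π y i) * a y i := by
    intro x y i
    apply MulEquiv.ext
    intro s
    apply Subtype.ext
    rw [MulAut.mul_apply, hval, hval, hval, hπ, hf2]
    group
  obtain ⟨V, _, _, _, ρ, hρ⟩ := exists_tensor π a ha hψ
  -- values on `N`
  have hfN : ∀ (n : N) i, f n i = i := by
    intro n i
    apply hTinj
    rw [hf]
    exact Subgroup.mem_normalizer_iff_map_conj_eq.1 (hTn i n.2)
  have hπN : ∀ n : N, π n = 1 := by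
    intro n
    ext i
    rw [hπ, hfN]
    rfl
  have haN : ∀ (n : N) i, a n i = MulAut.conj ((conjIso (g i) (hg i)).symm (e n i)) := by
    intro n i
    apply MulEquiv.ext
    intro s
    apply Subtype.ext
    rw [hval, hfN]
    have h1 : ∀ u : T i, (n : G) * u * (n : G)⁻¹ = (e n i : G) * u * (e n i : G)⁻¹ := by
      intro u
      have h2 := (hc ((⟨e n i, hTN i (e n i).2⟩ : N)⁻¹ * n) i).1 (by
        have h1 : e (⟨e n i, hTN i (e n i).2⟩ : N) = Pi.mulSingle i (e n i) := by
          apply e.symm.injective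
          rw [MulEquiv.symm_apply_apply]
          exact Subtype.ext (he i (e n i)).symm
        rw [map_mul, map_inv, h1, Pi.mul_apply, Pi.inv_apply, Pi.mulSingle_eq_same]
        simp) u u.2
      have h3 : ((e n i : G))⁻¹ * (n : G) * u = u * (((e n i : G))⁻¹ * (n : G)) := h2.eq
      have h4 : (n : G) * u * (n : G)⁻¹ = (e n i : G) * (((e n i : G))⁻¹ * (n : G) * u) * (n : G)⁻¹ := by group
      rw [h4, h3]
      group
    have h5 := h1 (conjIso (g i) (hg i) s)
    rw [conjIso_apply] at h5
    have h6 : g i * (((conjIso (g i) (hg i)).symm (e n i) : T o) : G) * (g i)⁻¹ = (e n i : G) := by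
      have := congrArg (Subtype.val : T i → G) ((conjIso (g i) (hg i)).apply_symm_apply (e n i))
      rwa [conjIso_apply] at this
    rw [h5, MulAut.conj_apply, Subgroup.coe_mul, Subgroup.coe_mul, Subgroup.coe_inv, ← h6]
    group
  have hres : ∀ n : N, ρ.character n = ∏ i, α ((conjIso (g i) (hg i)).symm (e n i)) := by
    intro n
    rw [hρ n (hπN n)]
    exact Finset.prod_congr rfl fun i _ => by rw [haN, hext]
  refine ⟨ρ.character, isIrrCharacter_of_rep ρ ?_, hres⟩
  apply Cfsg.Agent.CharDeep.LinearChar.isIrreducible_of_comp N.subtype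
  apply isIrreducible_of_isIrrCharacter
  have h1 := isIrr_pi (ι := Fin m) hα
  let E : N ≃* (Fin m → T o) := e.trans (MulEquiv.piCongrRight fun i => (conjIso (g i) (hg i)).symm)
  have h2 := isIrr_comp (E : N →* (Fin m → T o)) E.surjective h1
  convert h2 using 1
  funext n
  exact hres n

/-- **Product characters invariant under a `p`-subgroup.** -/
theorem exists_invariant_coord [N.Normal] [Finite G] (hTinj : Function.Injective T) (hTN : ∀ i, T i ≤ N)
    (hconj : ∀ (g : G) i, ∃ j, T j = (T i).map (MulAut.conj g).toMonoidHom)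
    (he : ∀ i (t : T i), ((e.symm (Pi.mulSingle i t) : N) : G) = t)
    (hc : ∀ (n : N) i, e n i = 1 ↔ ∀ t ∈ T i, Commute (n : G) t)
    (o : Fin m) (g : Fin m → G) (hg : ∀ i, T i = (T o).map (MulAut.conj (g i)).toMonoidHom)
    {p : ℕ} [hp : Fact p.Prime] (P : Subgroup G) (hP : IsPGroup p P)
    {β : T o → ℂ} (hβ : IsIrrCharacter (T o) β)
    (hinv : ∀ φ : MulAut (T o), (∃ k : ℕ, orderOf φ = p ^ k) → ∀ s, β (φ s) = β s) :
    ∃ Θ : N → ℂ, IsIrrCharacter N Θ ∧ (∀ x ∈ P, ∀ n, Θ (MulAut.conjNormal x n) = Θ n) ∧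
      ∃ E : N ≃* (Fin m → T o), ∀ n, Θ n = ∏ i, β (E n i) := by
  classical
  choose f hf using hconj
  have hf1 : ∀ i, f 1 i = i := by
    intro i
    apply hTinj
    rw [hf, Cfsg.Agent.Lib.MinNormal.map_conj_one]
  have hf2 : ∀ x y i, f (x * y) i = f x (f y i) := by
    intro x y i
    apply hTinj
    rw [hf, hf x, hf y, Cfsg.Agent.Lib.MinNormal.map_conj_map_conj]
  let act : MulAction G (Fin m) :=
    { smul := f
      one_smul := hf1
      mul_smul := hf2 }
  have hsm : ∀ (x : G) i, x • i = f x i := fun _ _ => rfl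
  -- representatives of the `P`-orbits
  let r : Fin m → Fin m := fun i => (Quotient.mk'' i : MulAction.orbitRel.Quotient P (Fin m)).out
  have hr : ∀ i, ∃ k : P, (k : G) • (r i) = i := by
    intro i
    have h1 : (MulAction.orbitRel P (Fin m)).r (r i) i := Quotient.mk_out (s := MulAction.orbitRel P (Fin m)) i
    have h2 : r i ∈ MulAction.orbit P i := h1
    obtain ⟨k, hk⟩ := h2
    refine ⟨k⁻¹, ?_⟩
    rw [← hk]
    exact inv_smul_smul k i
  have hrr : ∀ (x : G) (hx : x ∈ P) i, r (f x i) = r i := by
    intro x hx i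
    have h1 : (Quotient.mk'' (f x i) : MulAction.orbitRel.Quotient P (Fin m)) = Quotient.mk'' i := by
      apply Quotient.sound'
      exact ⟨⟨x, hx⟩, rfl⟩
    change (Quotient.mk'' (f x i) : MulAction.orbitRel.Quotient P (Fin m)).out = _
    rw [h1]
  choose k hk using hr
  -- the new identifications
  let g' : Fin m → G := fun i => (k i : G) * g (r i)
  have hg' : ∀ i, T i = (T o).map (MulAut.conj (g' i)).toMonoidHom := by
    intro i
    have h1 : f (k i) (r i) = i := hk i
    calc T i = T (f (k i) (r i)) := by rw [h1]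
      _ = (T (r i)).map (MulAut.conj (k i : G)).toMonoidHom := hf _ _
      _ = ((T o).map (MulAut.conj (g (r i))).toMonoidHom).map (MulAut.conj (k i : G)).toMonoidHom := by rw [← hg]
      _ = _ := Cfsg.Agent.Lib.MinNormal.map_conj_map_conj _ _ _
  let E : N ≃* (Fin m → T o) := e.trans (MulEquiv.piCongrRight fun i => (conjIso (g' i) (hg' i)).symm)
  have hE : ∀ n i, E n i = (conjIso (g' i) (hg' i)).symm (e n i) := fun _ _ => rfl
  have hEval : ∀ n i, g' i * (E n i : G) * (g' i)⁻¹ = (e n i : G) := by
    intro n i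
    have := congrArg (Subtype.val : T i → G) ((conjIso (g' i) (hg' i)).apply_symm_apply (e n i))
    rw [conjIso_apply] at this
    rw [hE]
    exact this
  refine ⟨fun n => ∏ i, β (E n i), ?_, ?_, E, fun _ => rfl⟩
  · have h1 := isIrr_pi (ι := Fin m) hβ
    exact isIrr_comp (E : N →* (Fin m → T o)) E.surjective h1
  · intro x hx n
    let π : Equiv.Perm (Fin m) := MulAction.toPerm x
    have hπ : ∀ i, π i = f x i := fun _ => rfl
    change ∏ i, β (E (MulAut.conjNormal x n) i) = ∏ i, β (E n i)
    rw [← Equiv.prod_comp π]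
    refine Finset.prod_congr rfl fun i _ => ?_
    rw [hπ]
    -- the automorphism
    set z : G := (g' (f x i))⁻¹ * x * g' i with hz
    have hzP : ∃ y ∈ P, z = (g (r i))⁻¹ * y * g (r i) := by
      refine ⟨(k (f x i) : G)⁻¹ * x * k i, mul_mem (mul_mem (inv_mem (k (f x i)).2) hx) (k i).2, ?_⟩
      rw [hz]
      change ((k (f x i) : G) * g (r (f x i)))⁻¹ * x * ((k i : G) * g (r i)) = _
      rw [hrr x hx]
      group
    have hzT : T o = (T o).map (MulAut.conj z).toMonoidHom := by
      have h1 := hf x i
      rw [hg' (f x i), hg' i, Cfsg.Agent.Lib.MinNormal.map_conj_map_conj] at h1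
      have h2 := congrArg (fun S : Subgroup G => S.map (MulAut.conj (g' (f x i))⁻¹).toMonoidHom) h1
      beta_reduce at h2
      rw [Cfsg.Agent.Lib.MinNormal.map_conj_map_conj, Cfsg.Agent.Lib.MinNormal.map_conj_map_conj, inv_mul_cancel,
        Cfsg.Agent.Lib.MinNormal.map_conj_one] at h2
      rw [hz, mul_assoc]
      exact h2
    have hzo : ∃ a : ℕ, orderOf z = p ^ a := by
      obtain ⟨y, hy, hyz⟩ := hzP
      obtain ⟨a, ha⟩ := hP ⟨y, hy⟩
      have h1 : z ^ p ^ a = 1 := by
        have h2 : y ^ p ^ a = 1 := congrArg Subtype.val ha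
        have h3 : z = MulAut.conj (g (r i))⁻¹ y := by
          rw [hyz, MulAut.conj_apply, inv_inv]
        rw [h3, ← map_pow, h2, map_one]
      obtain ⟨b, -, hb⟩ := (Nat.dvd_prime_pow hp.out).1 (orderOf_dvd_of_pow_eq_one h1)
      exact ⟨b, hb⟩
    have hφ : ∃ a : ℕ, orderOf (conjIso z hzT : MulAut (T o)) = p ^ a := by
      obtain ⟨a, ha⟩ := hzo
      have hpow : ∀ (b : ℕ) (s : T o), (((conjIso z hzT : MulAut (T o)) ^ b) s : G) = z ^ b * s * (z ^ b)⁻¹ := by
        intro b
        induction b with
        | zero => intro s; simp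
        | succ b ih =>
          intro s
          rw [pow_succ, MulAut.mul_apply, ih]
          have : ((conjIso z hzT : MulAut (T o)) s : G) = z * s * z⁻¹ := conjIso_apply z hzT s
          rw [this, pow_succ]
          group
      have h1 : (conjIso z hzT : MulAut (T o)) ^ p ^ a = 1 := by
        apply MulEquiv.ext
        intro s
        apply Subtype.ext
        rw [hpow, ← ha, pow_orderOf_eq_one]
        simp
      obtain ⟨b, -, hb⟩ := (Nat.dvd_prime_pow hp.out).1 (orderOf_dvd_of_pow_eq_one h1)
      exact ⟨b, hb⟩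
    have hval : E (MulAut.conjNormal x n) (f x i) = (conjIso z hzT : MulAut (T o)) (E n i) := by
      apply Subtype.ext
      have h1 := hEval (MulAut.conjNormal x n) (f x i)
      rw [coord_conj e hTN he hc x i (f x i) (hf x i) n, ← hEval n i] at h1
      have h2 : ((conjIso z hzT : MulAut (T o)) (E n i) : G) = z * (E n i) * z⁻¹ := conjIso_apply z hzT _
      rw [h2, hz]
      have h3 : (E (MulAut.conjNormal x n) (f x i) : G) =
          (g' (f x i))⁻¹ * (g' (f x i) * (E (MulAut.conjNormal x n) (f x i)) * (g' (f x i))⁻¹) * g' (f x i) := by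
        group
      rw [h3, h1]
      group
    rw [hval]
    exact hinv _ hφ _

end ext

/-- What a non-abelian minimal normal subgroup `N` of `G` with simple factor `S` gives for characters. -/
structure Fac {G : Type u} [Group G] (N : Subgroup G) [N.Normal] (m : ℕ) (S : Type u) [Group S] : Prop where
  pos : 0 < m
  finite : Finite S
  simple : IsSimpleGroup S
  nonab : ∃ a b : S, a * b ≠ b * a
  ext : ∀ α : S → ℂ, IsIrrCharacter S α →
    (∃ ψ : MulAut S → ℂ, IsIrrCharacter (MulAut S) ψ ∧ ∀ s, ψ (MulAut.conj s) = α s) →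
    ∃ χ : G → ℂ, IsIrrCharacter G χ ∧ ∃ E : N ≃* (Fin m → S), ∀ n : N, χ n = ∏ i, α (E n i)
  inv : ∀ {p : ℕ} [Fact p.Prime] (P : Subgroup G), IsPGroup p P → ∀ β : S → ℂ, IsIrrCharacter S β →
    (∀ φ : MulAut S, (∃ k : ℕ, orderOf φ = p ^ k) → ∀ s, β (φ s) = β s) →
    ∃ Θ : N → ℂ, IsIrrCharacter N Θ ∧ (∀ x ∈ P, ∀ n, Θ (MulAut.conjNormal x n) = Θ n) ∧
      ∃ E : N ≃* (Fin m → S), ∀ n, Θ n = ∏ i, β (E n i)

/-- **Characters of a group with a non-abelian minimal normal subgroup.** -/
theorem exists_fac {G : Type u} [Group G] [Finite G] (N : Subgroup G) [N.Normal]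
    (hmin : ∀ M : Subgroup G, M.Normal → M ≤ N → M = ⊥ ∨ M = N)
    (hna : ¬ ∀ x ∈ N, ∀ y ∈ N, Commute x y) : ∃ (m : ℕ) (S : Type u) (_ : Group S), Fac N m S := by
  obtain ⟨m, T, e, hm, hsimple, hTna, hTinj, hTN, hTn, hconj, htrans, he, hcoord⟩ :=
    Cfsg.Agent.PermutationGroups.OnanScott.exists_coordinates N hmin hna
  set o : Fin m := ⟨0, hm⟩ with ho
  choose g hg using fun i => htrans o i
  refine ⟨m, T o, inferInstance, hm, inferInstance, hsimple o, hTna o, ?_, ?_⟩
  · rintro α hα ⟨ψ, hψ, hψα⟩
    obtain ⟨χ, hχ, hχN⟩ := exists_extension_coord e hTinj hTN hTn hconj he hcoord o g hg hα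
      (isIrr_isCharacter hψ) hψα
    exact ⟨χ, hχ, e.trans (MulEquiv.piCongrRight fun i => (conjIso (g i) (hg i)).symm), hχN⟩
  · intro p hp P hP β hβ hinv
    exact exists_invariant_coord e hTinj hTN hconj he hcoord o g hg P hP hβ hinv

end Cfsg.Agent.H669.TensExt

private theorem dce_889275f53550 : _root_.True := by
  try have : _root_.True := by simp only [_root_.Cfsg.Agent.H669.TensExt.tmat.eq_1]
  exact _root_.True.intro
end
end
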