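import Cfsg.Agent.Characters.Core
import Cfsg.Agent.Blocks.Basic
import Cfsg.Agent.S0139
import Cfsg.Agent.Prune
set_option linter.all false
prune_inst 0x7f00000000000000000000000000000000000000000000000000000000000000000000000000000000000000000000000000000000000000000000000000000000000000000000000000000000000000003fdffeefffffffffffffffffffffbeffbdefffffff
open scoped Cfsg.Agent.FastGrp

/-!
# Irreducible characters of minimal degree

* `irr_of_min` : if all complex representations of degree `< N` are trivial, then a character of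
  degree `N` which is not constant is irreducible.
* `exists_irr_of_real` : the version for a faithful real representation of degree `N`.
-/

set_option autoImplicit false

namespace Cfsg.Agent.H419.MinDeg

open Cfsg Cfsg.Agent.Characters.Core

variable {G : Type*} [Group G]

theorem irr_of_min [Finite G] {N : ℕ}
    (hmin : ∀ (n : ℕ) (ρ : Representation ℂ G (Fin n → ℂ)), n < N → ∀ g, ρ g = 1)
    {θ : G → ℂ} (hθ : IsCharacter G θ) (h1 : θ 1 = N) {x : G} (hx : θ x ≠ N) :
    IsIrrCharacter G θ := by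
  classical
  have : Finite (IrrCharacter G) := finite_irr
  have := Fintype.ofFinite (IrrCharacter G)
  obtain ⟨m, hm⟩ := exists_nat_comb hθ
  have hval : ∀ g, θ g = ∑ η : IrrCharacter G, (m η : ℂ) * (η : G → ℂ) g := by
    intro g
    rw [hm]
    simp [Finset.sum_apply]
  have hdeg : ∀ η : IrrCharacter G, ∃ d : ℕ, (η : G → ℂ) 1 = d ∧
      (d < N → ∀ g, (η : G → ℂ) g = d) := by
    rintro ⟨η, n, ρ, hρ, rfl⟩
    have h1 : ∀ V : Module.End ℂ (Fin n → ℂ), V = 1 → LinearMap.trace ℂ _ V = (n : ℂ) := by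
      rintro V rfl
      rw [LinearMap.trace_one]
      simp
    exact ⟨n, h1 _ (map_one ρ), fun hd g => h1 _ (hmin n ρ hd g)⟩
  choose d hd1 hd2 using hdeg
  have hsum : ∑ η : IrrCharacter G, m η * d η = N := by
    have h2 := hval 1
    rw [h1] at h2
    have h3 : ((N : ℕ) : ℂ) = ((∑ η : IrrCharacter G, m η * d η : ℕ) : ℂ) := by
      push_cast
      rw [h2]
      exact Finset.sum_congr rfl fun η _ => by rw [hd1]
    exact_mod_cast h3.symm
  obtain ⟨η, hη, hη2⟩ : ∃ η : IrrCharacter G, m η ≠ 0 ∧ N ≤ d η := by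
    by_contra hcon
    push Not at hcon
    apply hx
    rw [hval, ← hsum]
    push_cast
    refine Finset.sum_congr rfl fun η _ => ?_
    by_cases hη : m η = 0
    · rw [hη]; simp
    · rw [hd2 η (hcon η hη)]
  have hN : 0 < d η := by
    rw [Nat.pos_iff_ne_zero]
    intro h0
    have h6 := hd1 η
    rw [h0, Nat.cast_zero] at h6
    exact isIrr_apply_one_ne_zero η.2 h6
  have h2 : m η * d η ≤ N := by
    rw [← hsum]
    exact Finset.single_le_sum (f := fun η => m η * d η) (fun _ _ => Nat.zero_le _) (Finset.mem_univ η)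
  have hmη : m η = 1 := by
    rcases Nat.lt_or_ge (m η) 2 with h3 | h3
    · omega
    · have : 2 * d η ≤ m η * d η := Nat.mul_le_mul_right _ h3
      omega
  have hdN : d η = N := by
    rw [hmη, one_mul] at h2
    exact le_antisymm h2 hη2
  have h3 : ∑ ζ ∈ Finset.univ.erase η, m ζ * d ζ = 0 := by
    have h4 := Finset.add_sum_erase Finset.univ (fun η => m η * d η) (Finset.mem_univ η)
    rw [hsum, hmη, hdN] at h4
    omega
  have h4 : ∀ ζ : IrrCharacter G, ζ ≠ η → m ζ = 0 := by
    intro ζ hζ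
    have h5 := (Finset.sum_eq_zero_iff.1 h3) ζ (Finset.mem_erase.2 ⟨hζ, Finset.mem_univ ζ⟩)
    rcases Nat.mul_eq_zero.1 h5 with h6 | h6
    · exact h6
    · exfalso
      have h7 := hd1 ζ
      rw [h6, Nat.cast_zero] at h7
      exact isIrr_apply_one_ne_zero ζ.2 h7
  have h5 : θ = (η : G → ℂ) := by
    funext g
    rw [hval, Finset.sum_eq_single η]
    · rw [hmη, Nat.cast_one, one_mul]
    · intro ζ _ hζ
      rw [h4 ζ hζ, Nat.cast_zero, zero_mul]
    · intro h6
      exact absurd (Finset.mem_univ η) h6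
  rw [h5]
  exact η.2

/-- The complexification of a real representation. -/
noncomputable def cplx {n : ℕ} (ρ : Representation ℝ G (Fin n → ℝ)) : Representation ℂ G (Fin n → ℂ) where
  toFun g := Matrix.toLin' ((LinearMap.toMatrix' (ρ g)).map (algebraMap ℝ ℂ))
  map_one' := by
    rw [map_one, LinearMap.toMatrix'_one, Matrix.map_one _ (map_zero _) (map_one _), Matrix.toLin'_one]
    rfl
  map_mul' g h := by
    rw [map_mul, LinearMap.toMatrix'_mul, Matrix.map_mul, Matrix.toLin'_mul]
    rfl

theorem cplx_eq_one {n : ℕ} {ρ : Representation ℝ G (Fin n → ℝ)} {g : G} (h : cplx ρ g = 1) : ρ g = 1 := by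
  have h1 : Matrix.toLin' ((LinearMap.toMatrix' (ρ g)).map (algebraMap ℝ ℂ)) =
      Matrix.toLin' (1 : Matrix (Fin n) (Fin n) ℂ) := by
    rw [Matrix.toLin'_one]
    exact h
  have h2 := Matrix.toLin'.injective h1
  have h3 : LinearMap.toMatrix' (ρ g) = 1 := by
    apply Matrix.map_injective (algebraMap ℝ ℂ).injective
    show (LinearMap.toMatrix' (ρ g)).map (algebraMap ℝ ℂ) =
      (1 : Matrix (Fin n) (Fin n) ℝ).map (algebraMap ℝ ℂ)
    rw [h2, Matrix.map_one _ (map_zero _) (map_one _)]
  apply LinearMap.toMatrix'.injective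
  rw [h3, LinearMap.toMatrix'_one]

theorem exists_irr_of_real [Finite G] [Nontrivial G] {N : ℕ}
    (hmin : ∀ (n : ℕ) (ρ : Representation ℂ G (Fin n → ℂ)), n < N → ∀ g, ρ g = 1)
    (ρ : Representation ℝ G (Fin N → ℝ)) (hρ : Function.Injective ρ) :
    ∃ χ : IrrCharacter G, charDegree (χ : G → ℂ) = N := by
  have h1 : (cplx ρ).character 1 = (N : ℂ) := by
    rw [Representation.char_one]
    simp
  obtain ⟨x, hx⟩ := exists_ne (1 : G)
  refine ⟨⟨(cplx ρ).character, irr_of_min hmin ⟨N, cplx ρ, rfl⟩ h1 (x := x) fun h => ?_⟩, ?_⟩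
  · have h2 := (Cfsg.Agent.S0139.result (cplx ρ) x).1 (by rw [h, Module.finrank_fin_fun])
    have h3 : cplx ρ x = 1 := h2
    apply hx
    apply hρ
    rw [cplx_eq_one h3, map_one]
  · exact Cfsg.Agent.Blocks.Basic.charDegree_of_eq h1

end Cfsg.Agent.H419.MinDeg
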